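import Cfsg.Agent.H805.NilSp_m3
import Cfsg.Agent.OddOrderLocal.HallPi
import Cfsg.Agent.H904.McLCent
import Cfsg.Agent.TypeM.FactsMcL
import Cfsg.Agent.TypeM.FactsAut
import Cfsg.Agent.S1580
import Cfsg.Agent.FastGrp
import Cfsg.Agent.Prune
set_option linter.all false
prune_inst 0x7f00000000000000000000000000000000000000000000000000000000000000000000000000000000000000000000000000000000000000000000000000000000000000000000000000000000000000003fffffffffffffffffffffffffffbeffbdffffffff
open scoped Cfsg.Agent.FastGrp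

-- part: H805/NilSpB
section
/-!
# Nilpotent subgroups of simple groups: second criterion (helper805, for S2242)

* `arithK` : the Sylow arithmetic with an element of order `k` in `N / C`;
* `small_of_chk'` : the criterion, with prime powers excluded from the orders of centralizers.
-/

set_option autoImplicit false

namespace Cfsg.Agent.H805.NilSp

open Cfsg Subgroup Cfsg.Agent.H972 Cfsg.Agent.H972.NSm
open scoped Pointwise

universe u

/-- `C(x)` has order prime to `q`, for the elements `x` of order `r` (`q` not necessarily a prime) -/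
def NoDvd (r q : ℕ) (G : Type*) [Group G] : Prop :=
  ∀ x : G, orderOf x = r → ¬ q ∣ Nat.card ↥(centralizer ({x} : Set G))

theorem NoComm.noDvd {r s : ℕ} (hs : s.Prime) {G : Type*} [Group G] [Finite G] (h : NoComm r s G) : NoDvd r s G :=
  fun _ hx => not_dvd_of_noComm hs h hx

/-- Sylow arithmetic, with an element acting with order `k` on the subgroup of order `s` -/
theorem arithK {G : Type*} [Group G] [Finite G] {x y : G} {s m k : ℕ} (hs : s.Prime) (hx : orderOf x = s)
    (hsq : ¬ s * s ∣ Nat.card G) (hk : k.Prime) (hy : y * x * y⁻¹ = x ^ m) (hmk : m ^ k % s = 1) (hm : m % s ≠ 1) :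
    ∃ e, e ∣ s - 1 ∧ k ∣ e ∧
      Nat.card (centralizer ({x} : Set G)) * e ∣ Nat.card G ∧
      Nat.card G / (Nat.card (centralizer ({x} : Set G)) * e) % s = 1 % s := by
  classical
  have : Fact s.Prime := ⟨hs⟩
  have hcz : Nat.card (zpowers x) = s := by rw [Nat.card_zpowers, hx]
  have hidx : ¬ s ∣ (zpowers x).index := by
    intro h
    apply hsq
    rw [← Subgroup.card_mul_index (zpowers x), hcz]
    exact Nat.mul_dvd_mul_left s h
  have hP : IsPGroup s (zpowers x) := IsPGroup.of_card (n := 1) (by rw [hcz, pow_one])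
  let P : Sylow s G := hP.toSylow hidx
  have hPx : (P : Subgroup G) = zpowers x := rfl
  let N := normalizer (zpowers x : Set G)
  let C := centralizer ({x} : Set G)
  have hCN : C ≤ N := by
    intro g hg
    rw [mem_centralizer_singleton_iff] at hg
    rw [Subgroup.mem_normalizer_iff]
    intro h
    have hgc : Commute g x := hg
    have key : ∀ k : ℤ, g * x ^ k * g⁻¹ = x ^ k := fun k => by
      rw [(hgc.zpow_right k).eq, mul_inv_cancel_right]
    constructor
    · intro hh
      obtain ⟨k, rfl⟩ := mem_zpowers_iff.1 hh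
      rw [key]
      exact hh
    · intro hh
      obtain ⟨k, hk⟩ := mem_zpowers_iff.1 hh
      have h1 : h = x ^ k := by
        rw [← key k] at hk
        have h2 : g * h * g⁻¹ = g * x ^ k * g⁻¹ := by rw [hk]
        simpa only [_root_.mul_left_inj, _root_.mul_right_inj] using h2
      rw [h1]
      exact zpow_mem (mem_zpowers x) k
  have hNn : ((zpowers x).subgroupOf N).Normal := by
    have := Subgroup.normal_in_normalizer (H := zpowers x)
    exact this
  let Z := (zpowers x).subgroupOf N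
  let φ : N →* MulAut Z := MulAut.conjNormal
  have hZc : Nat.card Z = s := by
    rw [Nat.card_congr (Subgroup.subgroupOfEquivOfLe (Subgroup.le_normalizer)).toEquiv, hcz]
  have hker : φ.ker = C.subgroupOf N := by
    ext g
    rw [MonoidHom.mem_ker, mem_subgroupOf, mem_centralizer_singleton_iff]
    constructor
    · intro h
      have h1 : ((φ g ⟨⟨x, Subgroup.le_normalizer (mem_zpowers x)⟩, mem_zpowers x⟩ : Z) : N) =
          (⟨x, Subgroup.le_normalizer (mem_zpowers x)⟩ : N) := by rw [h]; rfl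
      have h2 : (g : G) * x * (g : G)⁻¹ = x := congrArg Subtype.val h1
      calc (g : G) * x = g * x * (g : G)⁻¹ * g := by group
        _ = x * g := by rw [h2]
    · intro h
      apply MulEquiv.ext
      rintro ⟨⟨y, hyN⟩, hy⟩
      apply Subtype.ext
      apply Subtype.ext
      have hy' : y ∈ zpowers x := hy
      obtain ⟨k, rfl⟩ := mem_zpowers_iff.1 hy'
      change (g : G) * x ^ k * (g : G)⁻¹ = x ^ k
      have hgc : Commute (g : G) x := h
      rw [(hgc.zpow_right k).eq, mul_inv_cancel_right]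
  have hcyc : IsCyclic Z := isCyclic_of_prime_card hZc
  have hrange : Nat.card φ.range ∣ s - 1 := by
    have h4 : Nat.card φ.range ∣ Nat.card (MulAut Z) := Subgroup.card_subgroup_dvd_card _
    rwa [IsCyclic.card_mulAut, hZc, Nat.totient_prime hs] at h4
  have hNcard : Nat.card N = Nat.card C * Nat.card φ.range := by
    rw [← Nat.card_congr (Subgroup.subgroupOfEquivOfLe hCN).toEquiv, ← hker]
    have h1 := Subgroup.card_mul_index φ.ker
    rw [Subgroup.index_ker] at h1
    exact h1.symm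
  -- the powers of `y`
  have hpow : ∀ j : ℕ, y ^ j * x * (y ^ j)⁻¹ = x ^ (m ^ j) := by
    intro j
    induction j with
    | zero => simp
    | succ j ih =>
      calc y ^ (j + 1) * x * (y ^ (j + 1))⁻¹ = y * (y ^ j * x * (y ^ j)⁻¹) * y⁻¹ := by rw [pow_succ']; group
        _ = (y * x * y⁻¹) ^ (m ^ j) := by rw [ih, conj_pow]
        _ = x ^ (m ^ (j + 1)) := by rw [hy, ← pow_mul, pow_succ']
  have hmap : (zpowers x).map (MulAut.conj y).toMonoidHom = zpowers x := by
    apply Subgroup.eq_of_le_of_card_ge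
    · rw [MonoidHom.map_zpowers, Subgroup.zpowers_le]
      change y * x * y⁻¹ ∈ zpowers x
      rw [hy]
      exact pow_mem (mem_zpowers x) m
    · exact (Nat.card_congr ((zpowers x).equivMapOfInjective (MulAut.conj y).toMonoidHom
        (MulAut.conj y).injective).toEquiv).le
  have hyN : y ∈ N := by
    rw [Subgroup.mem_normalizer_iff]
    intro a
    constructor
    · intro ha
      rw [← hmap]
      exact ⟨a, ha, rfl⟩
    · intro ha
      rw [← hmap] at ha
      obtain ⟨b, hb, hab⟩ := ha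
      have : b = a := (MulAut.conj y).injective hab
      rwa [← this]
  have hke : k ∣ Nat.card φ.range := by
    have h1 : φ ⟨y, hyN⟩ ^ k = 1 := by
      rw [← map_pow, ← MonoidHom.mem_ker, hker, mem_subgroupOf, mem_centralizer_singleton_iff]
      have h2 : y ^ k * x * (y ^ k)⁻¹ = x := by
        rw [hpow]
        conv_rhs => rw [← pow_one x]
        rw [pow_eq_pow_iff_modEq, hx]
        show m ^ k % s = 1 % s
        rw [hmk, Nat.mod_eq_of_lt hs.one_lt]
      exact mul_inv_eq_iff_eq_mul.1 h2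
    have h2 : φ ⟨y, hyN⟩ ≠ 1 := by
      intro h
      rw [← MonoidHom.mem_ker, hker, mem_subgroupOf, mem_centralizer_singleton_iff] at h
      have h3 : y * x * y⁻¹ = x := mul_inv_eq_iff_eq_mul.2 h
      rw [hy] at h3
      conv_rhs at h3 => rw [← pow_one x]
      rw [pow_eq_pow_iff_modEq, hx] at h3
      apply hm
      have h4 : m % s = 1 % s := h3
      rw [h4, Nat.mod_eq_of_lt hs.one_lt]
    have : Fact k.Prime := ⟨hk⟩
    have h3 : orderOf (φ ⟨y, hyN⟩) = k := orderOf_eq_prime h1 h2
    have h4 : φ ⟨y, hyN⟩ ∈ φ.range := ⟨_, rfl⟩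
    have h5 := _root_.orderOf_dvd_natCard (⟨φ ⟨y, hyN⟩, h4⟩ : ↥φ.range)
    rwa [Subgroup.orderOf_mk, h3] at h5
  refine ⟨Nat.card φ.range, hrange, hke, ?_, ?_⟩
  · rw [← hNcard]
    exact Subgroup.card_subgroup_dvd_card N
  · rw [← hNcard]
    have h1 : Nat.card (Sylow s G) ≡ 1 [MOD s] := card_sylow_modEq_one s G
    have h2 : Nat.card (Sylow s G) = N.index := by
      rw [Sylow.card_eq_index_normalizer P]
      rfl
    rw [h2] at h1
    have h3 : Nat.card G / Nat.card N = N.index := by
      rw [← Subgroup.card_mul_index N]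
      exact Nat.mul_div_cancel_left _ Nat.card_pos
    rw [h3]
    exact h1

/-- exclusion of the odd order `o / c` of a nilpotent subgroup of a group of order `2 ^ a * o` -/
def Excl' (a o : ℕ) (S R : List ℕ) (F : List (ℕ × ℕ)) (L : List ℕ) (c : ℕ) : Prop :=
  (∃ r ∈ S, r ∣ o / c) ∨ (∃ p ∈ F, p.1 ∣ o / c ∧ p.2 ∣ o / c) ∨
  (∃ r ∈ R, r ∣ o / c ∧ ∀ e ∈ List.range r, e ∣ r - 1 → e ≠ 1 → ∀ j ∈ L, j ∣ c → j * e ∣ 2 ^ a * c →
     (∃ p ∈ F, p.1 = r ∧ p.2 ∣ o / c * j) ∨ (2 ^ a * c / (j * e)) % r ≠ 1)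

instance instDecidableExcl' (a o : ℕ) (S R : List ℕ) (F : List (ℕ × ℕ)) (L : List ℕ) (c : ℕ) :
    Decidable (Excl' a o S R F L c) := by
  unfold Excl'; infer_instance

/-- **The criterion.** -/
theorem small_of_chk' {G : Type*} [Group G] [Finite G] [IsSimpleGroup G] (a o B : ℕ) (hN : Nat.card G = 2 ^ a * o)
    (ho : ¬ 2 ∣ o) (hB : o < 2 ^ a * B ^ 2) (S R : List ℕ) (F : List (ℕ × ℕ)) (L : List ℕ)
    (hL : (List.range B).filter (fun c => c ∣ o) = L)
    (hS : ∀ r ∈ S, SmallAt r G)
    (hR : ∀ r ∈ R, r.Prime ∧ ¬ r * r ∣ 2 ^ a * o ∧ 2 ^ a * o ≠ r ∧ NoComm r 2 G)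
    (hF : ∀ p ∈ F, p.1.Prime ∧ NoDvd p.1 p.2 G)
    (h2 : SmallAt 2 G) (hchk : ∀ c ∈ L, Excl' a o S R F L c) : NSm.Small G := by
  intro N hNn
  by_cases hN2 : 2 ∣ Nat.card ↥N
  · exact h2 N hNn hN2
  by_contra hlt
  push Not at hlt
  have hcop : (Nat.card ↥N).Coprime (2 ^ a) := ((Nat.Prime.coprime_iff_not_dvd Nat.prime_two).2 hN2).symm.pow_right a
  have hno : Nat.card ↥N ∣ o := by
    have h1 : Nat.card ↥N ∣ 2 ^ a * o := by rw [← hN]; exact card_subgroup_dvd_card N
    exact hcop.dvd_of_dvd_mul_left h1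
  obtain ⟨c, hc⟩ := hno
  set n := Nat.card ↥N with hn
  have hnpos : 0 < n := Nat.card_pos
  have ho0 : 0 < o := by
    rcases Nat.eq_zero_or_pos o with h | h
    · rw [h] at ho; exact absurd (dvd_zero 2) ho
    · exact h
  have hc0 : 0 < c := by
    rcases Nat.eq_zero_or_pos c with h | h
    · rw [h, mul_zero] at hc; omega
    · exact h
  have hge : 2 ^ a * c ≤ n := by
    rw [hN, hc] at hlt
    have h1 : n * (2 ^ a * c) ≤ n * n := by
      calc n * (2 ^ a * c) = 2 ^ a * (n * c) := by ring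
        _ ≤ n ^ 2 := hlt
        _ = n * n := sq n
    exact Nat.le_of_mul_le_mul_left h1 hnpos
  have hcB : c < B := by
    by_contra h
    push Not at h
    have h1 : 2 ^ a * B ^ 2 ≤ 2 ^ a * c ^ 2 := Nat.mul_le_mul_left _ (Nat.pow_le_pow_left h 2)
    have h3 : 2 ^ a * c ^ 2 ≤ o := by
      rw [hc]
      calc 2 ^ a * c ^ 2 = 2 ^ a * c * c := by ring
        _ ≤ n * c := Nat.mul_le_mul_right _ hge
    omega
  have hco : c ∣ o := ⟨n, by rw [hc]; ring⟩
  have hmem : ∀ j, j ∣ c → j ∈ L := by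
    intro j hj
    rw [← hL, List.mem_filter]
    refine ⟨List.mem_range.2 ((Nat.le_of_dvd hc0 hj).trans_lt hcB), ?_⟩
    simpa using hj.trans hco
  have hoc : o / c = n := by rw [hc]; exact Nat.mul_div_cancel _ hc0
  have hex := hchk c (hmem c dvd_rfl)
  unfold Excl' at hex
  rw [hoc] at hex
  rcases hex with ⟨r, hrS, hrn⟩ | ⟨p, hpF, hp1, hp2⟩ | ⟨r, hrR, hrn, hall⟩
  · exact absurd (hS r hrS N hNn hrn) (not_lt.2 hlt)
  · obtain ⟨hpp, hno⟩ := hF p hpF
    obtain ⟨x, hx, hxN, hle⟩ := exists_le_centralizer hNn hpp hp1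
    exact hno x hx (hp2.trans (Subgroup.card_dvd_of_le hle))
  · obtain ⟨hrp, hsq, hner, hno2⟩ := hR r hrR
    obtain ⟨x, hx, hxN, hle⟩ := exists_le_centralizer hNn hrp hrn
    obtain ⟨e, he, he1, hd, hmod⟩ := arith hrp hx (by rw [hN]; exact hsq) (by rw [hN]; exact hner)
    obtain ⟨j, hj⟩ : n ∣ Nat.card ↥(centralizer ({x} : Set G)) := Subgroup.card_dvd_of_le hle
    have hj2 : ¬ 2 ∣ j := by
      intro h
      exact not_dvd_of_noComm Nat.prime_two hno2 hx (by rw [hj]; exact h.trans (dvd_mul_left _ _))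
    have hje : j * e ∣ 2 ^ a * c := by
      rw [hj, hN, hc] at hd
      have h1 : n * (j * e) ∣ n * (2 ^ a * c) := by
        rw [show n * (j * e) = n * j * e by ring, show n * (2 ^ a * c) = 2 ^ a * (n * c) by ring]
        exact hd
      exact Nat.dvd_of_mul_dvd_mul_left hnpos h1
    have hjc : j ∣ c := by
      have h1 : j ∣ 2 ^ a * c := (dvd_mul_right j e).trans hje
      exact (((Nat.Prime.coprime_iff_not_dvd Nat.prime_two).2 hj2).symm.pow_right a).dvd_of_dvd_mul_left h1
    have her : e ∈ List.range r := by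
      rw [List.mem_range]
      have h1 := hrp.two_le
      have := Nat.le_of_dvd (by omega) he
      omega
    rcases hall e her he he1 j (hmem j hjc) hjc hje with ⟨p, hpF, hp1, hpj⟩ | h1
    · obtain ⟨-, hno⟩ := hF p hpF
      rw [hp1] at hno
      exact hno x hx (by rw [hj]; exact hpj)
    · apply h1
      rw [hj, hN, hc] at hmod
      have h3 : 2 ^ a * (n * c) / (n * j * e) = 2 ^ a * c / (j * e) := by
        rw [show 2 ^ a * (n * c) = n * (2 ^ a * c) by ring, show n * j * e = n * (j * e) by ring]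
        exact Nat.mul_div_mul_left _ _ hnpos
      rw [h3] at hmod
      rw [hmod]
      exact Nat.mod_eq_of_lt hrp.one_lt

/-- a prime power which divides the order of `G` exactly does not divide the orders of the centralizers of the
elements of order `r`, if one element of order `p` does not commute with the elements of order `r` -/
theorem noDvd_of_full {G : Type*} [Group G] [Finite G] {p k r : ℕ} (hp : p.Prime) (hr : r.Prime)
    (hk : ¬ p ^ (k + 1) ∣ Nat.card G) {y : G} (hy : orderOf y = p)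
    (h : ¬ r ∣ Nat.card ↥(centralizer ({y} : Set G))) : NoDvd r (p ^ k) G := by
  intro x hx hd
  have hpf : Fact p.Prime := ⟨hp⟩
  obtain ⟨Q, hQ⟩ := Sylow.exists_subgroup_card_pow_prime (G := ↥(centralizer ({x} : Set G))) p hd
  have hQc : Nat.card ↥(Q.map (centralizer ({x} : Set G)).subtype) = p ^ k := by
    rw [card_map_of_injective (subtype_injective _), hQ]
  -- it is a Sylow subgroup
  have hQp : IsPGroup p ↥(Q.map (centralizer ({x} : Set G)).subtype) := IsPGroup.of_card hQc
  have hidx : ¬ p ∣ (Q.map (centralizer ({x} : Set G)).subtype).index := by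
    intro h
    apply hk
    rw [← Subgroup.card_mul_index (Q.map (centralizer ({x} : Set G)).subtype), hQc, pow_succ]
    exact Nat.mul_dvd_mul_left _ h
  let P : Sylow p G := hQp.toSylow hidx
  -- `y` lies in a conjugate of it
  have hyp : IsPGroup p ↥(zpowers y) := IsPGroup.of_card (n := 1) (by rw [Nat.card_zpowers, hy, pow_one])
  obtain ⟨P', hP'⟩ := hyp.exists_le_sylow
  obtain ⟨g, hg⟩ := MulAction.exists_smul_eq G P P'
  have h1 : y ∈ (P' : Subgroup G) := hP' (mem_zpowers y)
  rw [← hg] at h1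
  have h2 : g⁻¹ * y * g ∈ (P : Subgroup G) := by
    rw [Sylow.coe_subgroup_smul] at h1
    rw [Subgroup.mem_pointwise_smul_iff_inv_smul_mem] at h1
    simpa [MulAut.smul_def] using h1
  have h3 : g⁻¹ * y * g ∈ centralizer ({x} : Set G) := by
    obtain ⟨z, -, hz⟩ := (h2 : g⁻¹ * y * g ∈ Q.map (centralizer ({x} : Set G)).subtype)
    rw [← hz]
    exact z.2
  have h4 : Commute (g⁻¹ * y * g) x := mem_centralizer_singleton_iff.1 h3
  apply h
  have h5 : Commute y (g * x * g⁻¹) := by
    show y * (g * x * g⁻¹) = g * x * g⁻¹ * y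
    calc y * (g * x * g⁻¹) = g * ((g⁻¹ * y * g) * x) * g⁻¹ := by group
      _ = g * (x * (g⁻¹ * y * g)) * g⁻¹ := by rw [h4.eq]
      _ = g * x * g⁻¹ * y := by group
  have h6 : g * x * g⁻¹ ∈ centralizer ({y} : Set G) := mem_centralizer_singleton_iff.2 h5.symm.eq
  have h7 : orderOf (⟨g * x * g⁻¹, h6⟩ : ↥(centralizer ({y} : Set G))) = r := by
    rw [Subgroup.orderOf_mk, ← hx]
    exact MulEquiv.orderOf_eq (MulAut.conj g) x
  rw [← h7]
  exact _root_.orderOf_dvd_natCard _

/-- A solvable group with cyclic Sylow 2-subgroups with an element `v` of order dividing 4: some element of order `r`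
commutes with `v²`, if `r ≡ 3` modulo 4. -/
theorem exists_comm_sq {G : Type*} [Group G] [Finite G] (hs : Group.IsSolvable G) {r : ℕ} (hr : r.Prime)
    (hr4 : r % 4 = 3) (hdr : r ∣ Nat.card G) (hsq : ¬ r * r ∣ Nat.card G)
    (hcyc : ∀ R : Subgroup G, IsPGroup 2 ↥R → IsCyclic ↥R) {v : G} (hv : v ^ 4 = 1) :
    ∃ y : G, orderOf y = r ∧ y * v ^ 2 = v ^ 2 * y := by
  have fr : Fact (Nat.Prime r) := ⟨hr⟩
  have f2 : Fact (Nat.Prime 2) := ⟨Nat.prime_two⟩
  have hr2 : r ≠ 2 := by rintro rfl; omega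
  obtain ⟨K, hK, hKi, hvK⟩ := Cfsg.Agent.OddOrderLocal.HallPi.exists_hall_ge_top (G := G) ({2, r} : Set ℕ)
    (X := zpowers v) (by
      intro q hq hd
      left
      rw [Nat.card_zpowers] at hd
      have h1 : q ∣ 2 ^ 2 := hd.trans (orderOf_dvd_of_pow_eq_one hv)
      exact (Nat.prime_dvd_prime_iff_eq hq Nat.prime_two).1 (hq.dvd_of_dvd_pow h1))
  have hvK' : v ∈ K := hvK (mem_zpowers v)
  have hKd : Nat.card K ∣ Nat.card G := K.card_subgroup_dvd_card
  have hKr : r ∣ Nat.card K := by
    rw [← K.card_mul_index] at hdr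
    exact (hr.dvd_mul.1 hdr).resolve_right (hKi r hr (by right; rfl))
  -- the order of `K` is `2 ^ a * r`
  obtain ⟨c, hc⟩ := hKr
  have hcr : ¬ r ∣ c := fun h => hsq ((Nat.mul_dvd_mul_left r h).trans (hc ▸ hKd))
  obtain ⟨a, ha⟩ : ∃ a : ℕ, c = 2 ^ a := by
    have h0 : c ≠ 0 := by rintro rfl; exact hcr (dvd_zero r)
    refine ⟨_, Nat.eq_prime_pow_of_unique_prime_dvd h0 fun {q} hq hd => ?_⟩
    rcases hK q hq (hc ▸ hd.trans (dvd_mul_left c r)) with h2 | h2
    · exact h2
    · exact absurd (h2 ▸ hd) hcr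
  by_cases hv2 : v ^ 2 = 1
  · obtain ⟨y, hy⟩ := exists_prime_orderOf_dvd_card' (G := G) r hdr
    exact ⟨y, hy, by rw [hv2, mul_one, one_mul]⟩
  have hva : 2 ∣ Nat.card K := by
    have h1 : orderOf (⟨v, hvK'⟩ : K) ∣ Nat.card K := _root_.orderOf_dvd_natCard _
    rw [Subgroup.orderOf_mk] at h1
    refine dvd_trans ?_ h1
    have h2 : orderOf v ∣ 2 ^ 2 := orderOf_dvd_of_pow_eq_one hv
    obtain ⟨i, -, hi2⟩ := (Nat.dvd_prime_pow Nat.prime_two).1 h2
    rcases Nat.eq_zero_or_pos i with h | h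
    · rw [h, pow_zero] at hi2
      rw [orderOf_eq_one_iff] at hi2
      rw [hi2, one_pow] at hv2
      exact absurd rfl hv2
    · rw [hi2]; exact dvd_pow_self 2 (by omega)
  have hmin : (Nat.card K).minFac = 2 := (Nat.minFac_eq_two_iff _).2 hva
  let S : Sylow 2 K := default
  have hS : IsCyclic ↥(S : Subgroup K) := by
    have h1 : IsPGroup 2 ↥((S : Subgroup K).map K.subtype) := S.isPGroup'.map _
    have h2 := hcyc _ h1
    exact isCyclic_of_injective ((S : Subgroup K).equivMapOfInjective _ (subtype_injective _)).toMonoidHom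
      (MulEquiv.injective _)
  have hcomp := IsCyclic.isComplement' hmin hS
  set P := (MonoidHom.transferSylow S (hS.normalizer_le_centralizer hmin)).ker with hPdef
  have hPn : P.Normal := MonoidHom.normal_ker _
  have hPc : Nat.card P * Nat.card S = Nat.card K := hcomp.card_mul
  have hSc : Nat.card ↥(S : Subgroup K) = 2 ^ a := by
    have h1 : (Nat.card K).factorization 2 = a := by
      rw [hc, ha, Nat.factorization_mul hr.ne_zero (by positivity), hr.factorization,
        Nat.Prime.factorization_pow Nat.prime_two]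
      simp [hr2]
    rw [S.card_eq_multiplicity, h1]
  have hP : Nat.card ↥P = r := by
    have h1 : Nat.card ↥(S : Subgroup K) = Nat.card S := rfl
    rw [← h1, hSc, hc, ha] at hPc
    exact Nat.eq_of_mul_eq_mul_right (by positivity) hPc
  obtain ⟨y, hy⟩ := exists_prime_orderOf_dvd_card' (G := P) r (by rw [hP])
  have hgen : ∀ z : K, z ∈ (P : Subgroup K) → ∃ i : ℕ, (y : K) ^ i = z := by
    intro z hz
    have h1 : zpowers y = ⊤ := by
      apply Subgroup.eq_top_of_card_eq
      rw [Nat.card_zpowers, hy, hP]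
    have h2 : (⟨z, hz⟩ : P) ∈ zpowers y := by rw [h1]; exact mem_top _
    obtain ⟨i, hi⟩ := (mem_powers_iff_mem_zpowers (x := y) (y := ⟨z, hz⟩)).2 h2
    exact ⟨i, congrArg Subtype.val hi⟩
  set w : K := ⟨v, hvK'⟩ with hw
  have hw4 : w ^ 4 = 1 := Subtype.ext hv
  have hyo : orderOf (y : K) = r := by rw [Subgroup.orderOf_coe]; exact hy
  obtain ⟨i, hi⟩ := hgen (w * y * w⁻¹) (hPn.conj_mem _ y.2 w)
  have hpow : ∀ k : ℕ, w ^ k * (y : K) * (w ^ k)⁻¹ = (y : K) ^ (i ^ k) := by
    intro k
    induction k with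
    | zero => simp
    | succ k ih =>
      have h1 : w ^ (k + 1) * (y : K) * (w ^ (k + 1))⁻¹ = w * (w ^ k * (y : K) * (w ^ k)⁻¹) * w⁻¹ := by
        rw [pow_succ']
        group
      rw [h1, ih, ← conj_pow, ← hi, ← pow_mul, pow_succ']
  have h4 := hpow 4
  rw [hw4] at h4
  simp only [one_mul, inv_one, mul_one] at h4
  have h5 : ((i : ZMod r)) ^ 4 = 1 := by
    have h6 : (i ^ 4 : ℕ) ≡ 1 [MOD r] := by
      rw [← hyo]
      refine (pow_eq_pow_iff_modEq (x := (y : K))).1 ?_
      rw [pow_one]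
      exact h4.symm
    have h8 : ((i ^ 4 : ℕ) : ZMod r) = ((1 : ℕ) : ZMod r) := (ZMod.natCast_eq_natCast_iff _ _ _).2 h6
    push_cast at h8
    exact h8
  -- `i ^ 2 = 1`
  have h6 : ((i : ZMod r)) ^ 2 = 1 := by
    have h7 : ((i : ZMod r) ^ 2) ^ 2 = 1 := by rw [← pow_mul]; exact h5
    have h70 : ((i : ZMod r) ^ 2 - 1) * ((i : ZMod r) ^ 2 + 1) = 0 := by
      have e1 : ((i : ZMod r) ^ 2 - 1) * ((i : ZMod r) ^ 2 + 1) = ((i : ZMod r) ^ 2) ^ 2 - 1 := by ring
      rw [e1, h7, sub_self]
    have h71 : (i : ZMod r) ^ 2 = 1 ∨ (i : ZMod r) ^ 2 = -1 := by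
      rcases mul_eq_zero.1 h70 with h | h
      · left; exact sub_eq_zero.1 h
      · right; exact eq_neg_of_add_eq_zero_left h
    rcases h71 with h8 | h8
    · exact h8
    · exfalso
      have h9 : IsSquare (-1 : ZMod r) := ⟨(i : ZMod r), by rw [← h8, pow_two]⟩
      rw [ZMod.exists_sq_eq_neg_one_iff] at h9
      exact h9 hr4
  have h7 := hpow 2
  have h8 : (y : K) ^ (i ^ 2) = (y : K) ^ 1 := by
    rw [pow_eq_pow_iff_modEq, hyo]
    refine (ZMod.natCast_eq_natCast_iff _ _ _).1 ?_
    push_cast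
    exact h6
  rw [h8, pow_one] at h7
  refine ⟨((y : K) : G), by rw [Subgroup.orderOf_coe]; exact hyo, ?_⟩
  have h9 : w ^ 2 * (y : K) = (y : K) * w ^ 2 := mul_inv_eq_iff_eq_mul.1 h7
  have h10' := congrArg (fun z : K => (z : G)) h9
  exact h10'.symm

end Cfsg.Agent.H805.NilSp
end

-- part: H805/NilMcL
section
/-!
# Nilpotent subgroups of McL (helper805, task 428 for S2242)

* `card_dvd_of_orbits` : a subgroup commuting with a subgroup of coprime order with large orbits is small;
* `small_McL` : `|N| ^ 2 < |G|` for nilpotent `N`.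
-/

set_option autoImplicit false

namespace Cfsg.Agent.H805.NilSp

open Cfsg Subgroup Cfsg.Agent.H972 Cfsg.Agent.H972.NSm

universe u

/-- a subgroup `T` commuting with a subgroup `Q` of coprime order acts faithfully on the orbits of `Q` -/
theorem card_dvd_of_orbits {G α : Type*} [Group G] [Finite G] [MulAction G α] [Finite α]
    (hf : ∀ g : G, (∀ a : α, g • a = a) → g = 1) (T Q : Subgroup G) (hTQ : ∀ t ∈ T, ∀ q ∈ Q, t * q = q * t)
    (hcop : (Nat.card ↥T).Coprime (Nat.card ↥Q)) {m k : ℕ} (hk : Nat.card α < m * (k + 1))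
    (hQ : ∀ a : α, m ≤ Nat.card ↥(MulAction.orbit ↥Q a)) : Nat.card ↥T ∣ k.factorial := by
  classical
  let Ω := MulAction.orbitRel.Quotient ↥Q α
  have hΩ : Finite Ω := Quotient.finite _
  have : Fintype Ω := Fintype.ofFinite Ω
  -- the number of orbits
  have hcard : Nat.card Ω ≤ k := by
    have h1 : Nat.card α = ∑ ω : Ω, Nat.card ↥ω.orbit := by
      rw [Nat.card_congr (MulAction.selfEquivSigmaOrbits' ↥Q α), Nat.card_sigma]
    have h2 : ∀ ω : Ω, m ≤ Nat.card ↥ω.orbit := by
      intro ω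
      induction ω using Quotient.inductionOn' with
      | h a => exact hQ a
    have h3 : Nat.card Ω * m ≤ Nat.card α := by
      rw [h1]
      calc Nat.card Ω * m = ∑ _ω : Ω, m := by
            rw [Finset.sum_const, Finset.card_univ, Nat.card_eq_fintype_card, smul_eq_mul]
        _ ≤ _ := Finset.sum_le_sum fun ω _ => h2 ω
    by_contra hlt
    push Not at hlt
    have h4 : (k + 1) * m ≤ Nat.card Ω * m := Nat.mul_le_mul_right m hlt
    rw [mul_comm] at h4
    omega
  -- the action of `T`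
  let act : MulAction ↥T Ω :=
    { smul := fun t => Quotient.map' (s₁ := MulAction.orbitRel ↥Q α) (s₂ := MulAction.orbitRel ↥Q α)
        (fun a => (t : G) • a) (by
          rintro a b ⟨q, rfl⟩
          refine ⟨q, ?_⟩
          show (q : G) • (t : G) • b = (t : G) • (q : G) • b
          rw [← mul_smul, ← mul_smul, hTQ t t.2 q q.2])
      one_smul := by
        intro ω
        induction ω using Quotient.inductionOn' with
        | h a =>
          show (Quotient.mk'' (((1 : T) : G) • a) : Ω) = Quotient.mk'' a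
          rw [Subgroup.coe_one, one_smul]
      mul_smul := by
        intro s t ω
        induction ω using Quotient.inductionOn' with
        | h a =>
          show (Quotient.mk'' (((s * t : T) : G) • a) : Ω) = Quotient.mk'' ((s : G) • (t : G) • a)
          rw [Subgroup.coe_mul, mul_smul] }
  let f := MulAction.toPermHom ↥T Ω
  have hinj : Function.Injective f := by
    rw [injective_iff_map_eq_one]
    intro t ht
    apply Subtype.ext
    apply hf
    intro a
    have h1 : (Quotient.mk'' ((t : G) • a) : Ω) = Quotient.mk'' a := by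
      have h2 : f t (Quotient.mk'' a) = Quotient.mk'' a := by rw [ht]; rfl
      exact h2
    obtain ⟨q, hq⟩ : ∃ q : Q, (q : G) • a = (t : G) • a := by
      have h2 := Quotient.exact' h1
      obtain ⟨q, hq⟩ := h2
      exact ⟨q, hq⟩
    have hn : ∀ n : ℕ, ((q : G) ^ n) • a = ((t : G) ^ n) • a := by
      intro n
      induction n with
      | zero => simp
      | succ n ih =>
        have hc : Commute ((t : G) ^ n) (q : G) := (show Commute (t : G) q from hTQ t t.2 q q.2).pow_left n
        calc (q : G) ^ (n + 1) • a = (q : G) • (q : G) ^ n • a := by rw [pow_succ', mul_smul]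
          _ = (q : G) • (t : G) ^ n • a := by rw [ih]
          _ = ((t : G) ^ n * (q : G)) • a := by rw [← mul_smul, hc.eq]
          _ = (t : G) ^ n • (t : G) • a := by rw [mul_smul, hq]
          _ = _ := by rw [← mul_smul, ← pow_succ]
    obtain ⟨n, hn0, hn1⟩ := Nat.chineseRemainder hcop 0 1
    have h3 : (t : G) ^ n = 1 := by
      have h4 : Nat.card ↥T ∣ n := (Nat.modEq_zero_iff_dvd).1 hn0
      obtain ⟨c, hc⟩ := h4
      have h5 : t ^ n = 1 := by rw [hc, pow_mul, pow_card_eq_one', one_pow]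
      exact congrArg Subtype.val h5
    have h4 : (q : G) ^ n = q := by
      have h5 : q ^ n = q ^ 1 := by
        rw [pow_eq_pow_iff_modEq]
        exact hn1.of_dvd (_root_.orderOf_dvd_natCard q)
      rw [pow_one] at h5
      exact congrArg Subtype.val h5
    have h6 := hn n
    rw [h3, h4, one_smul] at h6
    rw [← hq]
    exact h6
  have h1 : Nat.card ↥T ∣ Nat.card (Equiv.Perm Ω) := by
    have h2 : Nat.card ↥T = Nat.card ↥f.range := Nat.card_congr (MonoidHom.ofInjective hinj).toEquiv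
    rw [h2]
    exact card_subgroup_dvd_card _
  rw [Nat.card_perm] at h1
  exact h1.trans (Nat.factorial_dvd_factorial hcard)

/-- two primes: Sylow subgroups of a nilpotent subgroup commute -/
theorem exists_sylow_pair {G : Type*} [Group G] [Finite G] {N : Subgroup G} (hN : Group.IsNilpotent ↥N) {p q a b : ℕ}
    (hp : p.Prime) (hq : q.Prime) (hpq : p ≠ q) (ha : p ^ a ∣ Nat.card ↥N) (hb : q ^ b ∣ Nat.card ↥N) :
    ∃ T Q : Subgroup G, Nat.card ↥T = p ^ a ∧ Nat.card ↥Q = q ^ b ∧ ∀ t ∈ T, ∀ s ∈ Q, t * s = s * t := by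
  have fp : Fact p.Prime := ⟨hp⟩
  have fq : Fact q.Prime := ⟨hq⟩
  have hsyl := ((Group.isNilpotent_of_finite_tfae (G := ↥N)).out 0 3).1 hN
  obtain ⟨T, hT⟩ := Sylow.exists_subgroup_card_pow_prime (G := ↥N) p ha
  obtain ⟨Q, hQ⟩ := Sylow.exists_subgroup_card_pow_prime (G := ↥N) q hb
  obtain ⟨P, hP⟩ := (IsPGroup.of_card hT).exists_le_sylow
  obtain ⟨R, hR⟩ := (IsPGroup.of_card hQ).exists_le_sylow
  have hPn : (P : Subgroup ↥N).Normal := hsyl p fp P
  have hRn : (R : Subgroup ↥N).Normal := hsyl q fq R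
  have hdis : Disjoint (P : Subgroup ↥N) (R : Subgroup ↥N) := IsPGroup.disjoint_of_ne p q hpq _ _ P.isPGroup' R.isPGroup'
  refine ⟨T.map N.subtype, Q.map N.subtype, ?_, ?_, ?_⟩
  · rw [card_map_of_injective (subtype_injective _), hT]
  · rw [card_map_of_injective (subtype_injective _), hQ]
  · rintro _ ⟨t, ht, rfl⟩ _ ⟨s, hs, rfl⟩
    have h1 := Subgroup.commute_of_normal_of_disjoint _ _ hPn hRn hdis t s (hP ht) (hR hs)
    exact congrArg N.subtype h1.eq

namespace McL

open Cfsg.Agent.McLType.X275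

theorem transitive (i j : Fin 275) : ∃ g : G1, ψ g i = j := by
  obtain ⟨g, h1, h2, h3⟩ := (S1580.result u0 v0 sqNorm_u0 ⟨sqNorm_v0, norm_sub_v0⟩).2 (X i) (X_mem i) (X j) (X_mem j)
  refine ⟨⟨g, h1, h2⟩, X_injective ?_⟩
  rw [X_ψ]
  exact h3

/-- no subgroup of order `3 ^ 5` commutes with a subgroup of order `5 ^ 3` -/
theorem no_pair (T Q : Subgroup G1) (hT : Nat.card ↥T = 3 ^ 5) (hQ : Nat.card ↥Q = 5 ^ 3)
    (hTQ : ∀ t ∈ T, ∀ q ∈ Q, t * q = q * t) : False := by
  have hcard := card_G1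
  have hfin : Finite G1 := Nat.finite_of_card_ne_zero (by rw [hcard]; norm_num)
  let _ : MulAction G1 (Fin 275) := MulAction.compHom (Fin 275) ψ
  have hsm : ∀ (g : G1) (i : Fin 275), g • i = ψ g i := fun _ _ => rfl
  have htr : MulAction.IsPretransitive G1 (Fin 275) := ⟨fun i j => transitive i j⟩
  have hst : ∀ i : Fin 275, Nat.card ↥(MulAction.stabilizer G1 i) = 3265920 := by
    intro i
    have h1 := MulAction.index_stabilizer_of_transitive G1 i
    have h2 := Subgroup.card_mul_index (MulAction.stabilizer G1 i)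
    rw [h1, hcard, Nat.card_fin] at h2
    omega
  have h := card_dvd_of_orbits (G := G1) (α := Fin 275) (m := 25) (k := 11) (fun g hg => ψ_injective (by
    rw [map_one]
    exact Equiv.ext fun i => hg i)) T Q hTQ (by rw [hT, hQ]; norm_num) (by
      rw [Nat.card_eq_fintype_card, Fintype.card_fin]; norm_num) (fun i => by
      have h1 : Nat.card ↥(MulAction.orbit ↥Q i) * Nat.card ↥(MulAction.stabilizer ↥Q i) = 5 ^ 3 := by
        rw [Nat.card_congr (MulAction.orbitEquivQuotientStabilizer ↥Q i), ← hQ, mul_comm]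
        exact Subgroup.card_mul_index _
      have h3 : Nat.card ↥(MulAction.stabilizer ↥Q i) ∣ 3265920 := by
        rw [← hst i]
        have h4 : Nat.card ↥((MulAction.stabilizer ↥Q i).map Q.subtype) = Nat.card ↥(MulAction.stabilizer ↥Q i) :=
          card_map_of_injective (subtype_injective _)
        rw [← h4]
        apply Subgroup.card_dvd_of_le
        rintro _ ⟨q, hq, rfl⟩
        exact hq
      have h4 : Nat.card ↥(MulAction.stabilizer ↥Q i) ∣ 5 ^ 3 := Dvd.intro_left _ h1
      have h5 : Nat.card ↥(MulAction.stabilizer ↥Q i) ∣ 5 := by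
        have := Nat.dvd_gcd h3 h4
        norm_num only [_root_.MulAction.mem_stabilizer_iff] at this
        exact this
      have h6 : Nat.card ↥(MulAction.stabilizer ↥Q i) ≤ 5 := Nat.le_of_dvd (by norm_num) h5
      by_contra hlt
      push Not at hlt
      have : Nat.card ↥(MulAction.orbit ↥Q i) * Nat.card ↥(MulAction.stabilizer ↥Q i) ≤ 24 * 5 :=
        Nat.mul_le_mul (by omega) h6
      omega)
  rw [hT] at h
  exact absurd h (by decide)

end McL

theorem small_McL {G : Type u} [Group G] [Finite G] (h : Cfsg.Spor.IsoMcL G)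
    (_hI : ∀ (H : Type u) [Group H] [Finite H], IsSimpleGroup H → ¬ IsMulCommutative H → Nat.card H < Nat.card G →
      NSm.Small H) : NSm.Small G := by
  have hc := H904.McLCent.card_L h
  have h7 : ∀ x : G, orderOf x = 7 → Nat.card ↥(centralizer ({x} : Set G)) ≤ 14 := fun x hx => by
    have h1 := (H904.McLCent.seven h (zpowers x) (by rw [Nat.card_zpowers, hx])).1
    have h2 : centralizer ((zpowers x : Subgroup G) : Set G) = centralizer ({x} : Set G) := by
      rw [zpowers_eq_closure, centralizer_closure]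
    rw [h2] at h1
    exact Nat.le_of_dvd (by norm_num) h1
  have h11 : ∀ x : G, orderOf x = 11 → Nat.card ↥(centralizer ({x} : Set G)) ≤ 11 := fun x hx => by
    have h1 := (H904.McLCent.eleven h (zpowers x) (by rw [Nat.card_zpowers, hx])).1
    have h2 : centralizer ((zpowers x : Subgroup G) : Set G) = centralizer ({x} : Set G) := by
      rw [zpowers_eq_closure, centralizer_closure]
    rw [h2] at h1
    exact h1.le
  have s7 : SmallAt 7 G := smallAt_of_le (b := 14) (by norm_num) (by rw [hc]; norm_num) h7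
  have s11 : SmallAt 11 G := smallAt_of_le (b := 11) (by norm_num) (by rw [hc]; norm_num) h11
  have h2 : ∀ x : G, orderOf x = 2 → Nat.card ↥(centralizer ({x} : Set G)) = 40320 := fun x hx => by
    obtain ⟨hfin, -, -, ⟨L⟩⟩ := TypeM.FactsMcL.facts h
    obtain ⟨h1, h2⟩ := TypeM.Two.MT.sq_of_orderOf hx
    obtain ⟨L', rfl⟩ := L.exists_rebase h1 h2
    rw [TypeM.FactsAut.card_centralizer L' (by norm_num)]
    decide
  intro N hN
  by_cases hN7 : 7 ∣ Nat.card ↥N
  · exact s7 N hN hN7
  by_cases hN11 : 11 ∣ Nat.card ↥N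
  · exact s11 N hN hN11
  by_cases hN2 : 2 ∣ Nat.card ↥N
  · obtain ⟨x, hx, hxN, hle⟩ := exists_le_centralizer hN Nat.prime_two hN2
    have h3 : Nat.card ↥N ∣ 7 * 5760 := by
      have := Subgroup.card_dvd_of_le hle
      rw [h2 x hx] at this
      exact this
    have h4 : Nat.card ↥N ∣ 5760 :=
      ((Nat.Prime.coprime_iff_not_dvd (by norm_num : Nat.Prime 7)).2 hN7).symm.dvd_of_dvd_mul_left h3
    have h5 := Nat.le_of_dvd (by norm_num) h4
    rw [hc]
    exact (Nat.pow_le_pow_left h5 2).trans_lt (by norm_num)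
  have hdv : Nat.card ↥N ∣ 898128000 := by rw [← hc]; exact card_subgroup_dvd_card N
  have h3 : Nat.card ↥N ∣ 91125 := by
    have e1 : Nat.card ↥N ∣ 2 ^ 7 * (7 * (11 * 91125)) := by norm_num only []; exact hdv
    have e2 := (((Nat.Prime.coprime_iff_not_dvd Nat.prime_two).2 hN2).symm.pow_right 7).dvd_of_dvd_mul_left e1
    have e3 := ((Nat.Prime.coprime_iff_not_dvd (by norm_num : Nat.Prime 7)).2 hN7).symm.dvd_of_dvd_mul_left e2
    exact ((Nat.Prime.coprime_iff_not_dvd (by norm_num : Nat.Prime 11)).2 hN11).symm.dvd_of_dvd_mul_left e3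
  by_contra hlt
  push Not at hlt
  rw [hc] at hlt
  obtain ⟨c, hcc⟩ := h3
  have hc3 : c ≤ 3 := by
    by_contra hc4
    push Not at hc4
    have h4 : Nat.card ↥N * 4 ≤ 91125 := by
      calc Nat.card ↥N * 4 ≤ Nat.card ↥N * c := Nat.mul_le_mul_left _ hc4
        _ = 91125 := hcc.symm
    have h5 : Nat.card ↥N ≤ 22781 := by omega
    have h6 : Nat.card ↥N ^ 2 ≤ 22781 ^ 2 := Nat.pow_le_pow_left h5 2
    norm_num only [] at h6
    omega
  have hN' : Nat.card ↥N = 91125 ∨ Nat.card ↥N = 30375 := by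
    have : c = 0 ∨ c = 1 ∨ c = 2 ∨ c = 3 := by omega
    rcases this with rfl | rfl | rfl | rfl <;> (clear * - hcc hN2; omega)
  obtain ⟨T, Q, hT, hQ, hTQ⟩ := exists_sylow_pair (p := 3) (q := 5) (a := 5) (b := 3) hN (by norm_num) (by norm_num)
    (by norm_num) (by rcases hN' with h | h <;> rw [h] <;> norm_num) (by rcases hN' with h | h <;> rw [h] <;> norm_num)
  obtain ⟨e⟩ := h
  obtain ⟨e'⟩ := McLType.X275.isoMcL_G1
  let g : G ≃* McLType.X275.G1 := e.trans e'.symm
  refine McL.no_pair (T.map g.toMonoidHom) (Q.map g.toMonoidHom) ?_ ?_ ?_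
  · rw [card_map_of_injective g.injective, hT]
  · rw [card_map_of_injective g.injective, hQ]
  · rintro _ ⟨t, ht, rfl⟩ _ ⟨s, hs, rfl⟩
    show g t * g s = g s * g t
    rw [← map_mul, ← map_mul, hTQ t ht s hs]

end Cfsg.Agent.H805.NilSp
end
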