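import Mathlib
import Cfsg.Agent.Fischer480.Defs
import Cfsg.Agent.Fischer920.RackIso
set_option linter.all false

set_option autoImplicit false

/-!
# S5368: the hypotheses of Fischer's theorem

`fgroup_or_three`: a class of 3-transpositions with trivial centre and simple derived subgroup
either satisfies `Fischer480.Defs.FGroup` or the group is the symmetric group of degree 3.
-/

namespace Cfsg.Agent.H805.FG

open scoped commutatorElement
open Cfsg Cfsg.Agent.SporadicStructure.FischerSpace Cfsg.Agent.Fischer480.Defs

universe u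

variable {G : Type u} [Group G] {D : Set G}

/-- A normal subgroup meeting the derived subgroup trivially is central. -/
theorem le_center_of_inf (N : Subgroup G) [N.Normal] (h : N ⊓ commutator G = ⊥) :
    N ≤ Subgroup.center G := by
  intro x hx
  rw [Subgroup.mem_center_iff]
  intro g
  have h1 : ⁅x, g⁆ ∈ N ⊓ commutator G := by
    refine ⟨?_, Subgroup.commutator_mem_commutator (Subgroup.mem_top x) (Subgroup.mem_top g)⟩
    rw [commutatorElement_def]
    have h2 : g * x⁻¹ * g⁻¹ ∈ N := Subgroup.Normal.conj_mem inferInstance _ (inv_mem hx) g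
    have h3 : x * g * x⁻¹ * g⁻¹ = x * (g * x⁻¹ * g⁻¹) := by group
    rw [h3]
    exact mul_mem hx h2
  rw [h, Subgroup.mem_bot, commutatorElement_eq_one_iff_mul_comm] at h1
  exact h1.symm

/-- **The Fischer hypotheses**, if the derived subgroup is simple and not commutative. -/
theorem fgroup_of_simple (hD : IsThreeTranspositionClass D) (hZ : Subgroup.center G = ⊥)
    (hs : IsSimpleGroup (commutator G))
    (hna : ∃ x y : commutator G, x * y ≠ y * x) : FGroup D := by
  have hnsol : ¬ Group.IsSolvable (commutator G) := by
    intro h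
    obtain ⟨x, y, hxy⟩ := hna
    exact hxy (IsSimpleGroup.comm_iff_isSolvable.2 h x y)
  refine ⟨hD, ?_, ?_⟩
  · intro N hN hsol
    have h1 : (N.subgroupOf (commutator G)).Normal := inferInstance
    rcases hs.eq_bot_or_eq_top_of_normal _ h1 with h | h
    · have h2 : N ⊓ commutator G = ⊥ := by
        rw [Subgroup.subgroupOf_eq_bot] at h
        exact h.eq_bot
      have := le_center_of_inf N h2
      rw [hZ] at this
      exact le_bot_iff.1 this
    · exfalso
      rw [Subgroup.subgroupOf_eq_top] at h
      apply hnsol
      haveI := hsol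
      exact Group.isSolvable_of_isSolvable_injective (f := Subgroup.inclusion h)
        (Subgroup.inclusion_injective h)
  · have h1 : ⁅(⊤ : Subgroup (commutator G)), (⊤ : Subgroup (commutator G))⁆ = ⊤ := by
      rw [← commutator_def]
      rcases hs.eq_bot_or_eq_top_of_normal _
        (inferInstance : (commutator (commutator G)).Normal) with h | h
      · exfalso
        obtain ⟨x, y, hxy⟩ := hna
        apply hxy
        have h2 : ⁅x, y⁆ ∈ commutator (commutator G) :=
          Subgroup.commutator_mem_commutator (Subgroup.mem_top x) (Subgroup.mem_top y)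
        rw [h, Subgroup.mem_bot, commutatorElement_eq_one_iff_mul_comm] at h2
        exact h2
      · exact h
    have h2 := congrArg (Subgroup.map (commutator G).subtype) h1
    rw [Subgroup.map_commutator, ← MonoidHom.range_eq_map,
      Subgroup.range_subtype] at h2
    exact h2

/-- the product of two members of a class lies in the derived subgroup -/
theorem mul_mem_commutator (h : FData D) {a b : G} (ha : a ∈ D) (hb : b ∈ D) :
    a * b ∈ commutator G := by
  obtain ⟨g, rfl⟩ := h.single a ha b hb
  have h1 : a * (g * a * g⁻¹) = ⁅a, g⁆ := by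
    have h2 : a⁻¹ = a := h.inv_eq ha
    rw [commutatorElement_def]
    nth_rewrite 4 [← h2]
    group
  rw [h1]
  exact Subgroup.commutator_mem_commutator (Subgroup.mem_top a) (Subgroup.mem_top g)

/-- **Degree 3.** -/
theorem sym_three [Finite G] (hD : IsThreeTranspositionClass D) (hZ : Subgroup.center G = ⊥)
    (hs : IsSimpleGroup (commutator G))
    (hc : ∀ x y : commutator G, x * y = y * x) :
    ∃ e : G ≃* Equiv.Perm (Fin 3), e '' D = {σ : Equiv.Perm (Fin 3) | σ.IsSwap} := by
  have h := fdata_of_class hD
  -- two members which do not commute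
  obtain ⟨a, ha, b, hb, hab⟩ : ∃ a ∈ D, ∃ b ∈ D, ¬ Commute a b := by
    by_contra hcon
    push Not at hcon
    have h1 : ∀ x ∈ D, x ∈ Subgroup.center G := fun x hx =>
      h.mem_center_of_forall_commute fun y hy => hcon x hx y hy
    have h2 : (⊤ : Subgroup G) ≤ Subgroup.center G := by
      rw [← h.gen, Subgroup.closure_le]
      exact h1
    have h3 : commutator G = ⊥ := by
      rw [commutator_def, eq_bot_iff, Subgroup.commutator_le]
      intro x _ y _
      rw [Subgroup.mem_bot, commutatorElement_eq_one_iff_mul_comm]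
      exact ((Subgroup.mem_center_iff.1 (h2 (Subgroup.mem_top x))) y).symm
    have h4 := hs.exists_pair_ne
    obtain ⟨x, y, hxy⟩ := h4
    apply hxy
    apply Subtype.ext
    have hx : ∀ z ∈ commutator G, z = 1 := by
      intro z hz
      rw [h3, Subgroup.mem_bot] at hz
      exact hz
    rw [hx x x.2, hx y y.2]
  -- the product has order 3
  have hab3 : (a * b) ^ 3 = 1 := by
    have h1 := h.braid a ha b hb hab
    have h2 := h.sq a ha
    have h3 := h.sq b hb
    calc (a * b) ^ 3 = (a * b * a) * (b * a * b) := by rw [pow_succ, pow_two]; group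
      _ = (a * b * a) * (a * b * a) := by rw [h1]
      _ = a * b * (a * a) * b * a := by group
      _ = 1 := by rw [h2, mul_one, mul_assoc a b b, h3, mul_one, h2]
  have hab1 : a * b ≠ 1 := by
    intro h1
    apply hab
    have h2 : a = b⁻¹ := eq_inv_of_mul_eq_one_left h1
    rw [h2]
    exact (Commute.refl b).inv_left
  let c : commutator G := ⟨a * b, mul_mem_commutator h ha hb⟩
  have hc3 : orderOf c = 3 := by
    apply orderOf_eq_prime
    · apply Subtype.ext
      exact hab3
    · intro h1
      exact hab1 (congrArg Subtype.val h1)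
  -- the derived subgroup has order 3
  haveI := hs
  letI : CommGroup (commutator G) :=
    { (inferInstance : Group (commutator G)) with mul_comm := hc }
  have hp : (Nat.card (commutator G)).Prime := IsSimpleGroup.prime_card
  have hcard : Nat.card (commutator G) = 3 := by
    have h1 : orderOf c ∣ Nat.card (commutator G) := orderOf_dvd_natCard c
    rw [hc3] at h1
    exact ((Nat.prime_dvd_prime_iff_eq Nat.prime_three hp).1 h1).symm
  -- `D` has at most three members
  have hle : D.ncard ≤ 3 := by
    have h1 : D ⊆ (fun x : commutator G => (x : G) * a) '' Set.univ := by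
      intro x hx
      refine ⟨⟨x * a, mul_mem_commutator h hx ha⟩, trivial, ?_⟩
      show x * a * a = x
      rw [mul_assoc, h.sq a ha, mul_one]
    calc D.ncard ≤ ((fun x : commutator G => (x : G) * a) '' Set.univ).ncard :=
          Set.ncard_le_ncard h1 (Set.toFinite _)
      _ ≤ (Set.univ : Set (commutator G)).ncard := Set.ncard_image_le (Set.toFinite _)
      _ = 3 := by rw [Set.ncard_univ, hcard]
  have hge : 3 ≤ D.ncard := by
    have h0 : a * b * a ∈ D := h.conj' ha hb
    have h1 : a ≠ b := fun h1 => hab (by rw [h1])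
    have h2 : a ≠ a * b * a := by
      intro h2
      apply hab1
      have h3 : 1 * a = (a * b) * a := by rw [one_mul]; exact h2
      exact (mul_right_cancel h3).symm
    have h3 : b ≠ a * b * a := fun h3 => hab ((h.commute_iff ha b).2 h3.symm)
    have h4 : ({a, b, a * b * a} : Set G).ncard = 3 :=
      Set.ncard_eq_three.2 ⟨a, b, a * b * a, h1, h2, h3, rfl⟩
    rw [← h4]
    apply Set.ncard_le_ncard _ (Set.toFinite D)
    rintro x (rfl | rfl | rfl)
    · exact ha
    · exact hb
    · exact h0
  have h3 : Nat.card ↥D = 3 := by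
    rw [Nat.card_coe_set_eq]; omega
  let π : G →* Equiv.Perm ↥D := Cfsg.Agent.Fischer920.RackIso.conjPerm h.conj
  have hπ : Function.Injective π := by
    rw [← MonoidHom.ker_eq_bot_iff]
    exact (Cfsg.Agent.Fischer920.RackIso.ker_conjPerm h.conj h.gen).trans hZ
  haveI : Fintype ↥D := Fintype.ofFinite _
  have hP : Nat.card (Equiv.Perm ↥D) = 6 := by
    rw [Nat.card_perm, h3]; rfl
  have hG6 : 6 ∣ Nat.card G := by
    have k1 : 2 ∣ Nat.card G := by
      have : orderOf a = 2 := orderOf_eq_prime (by rw [pow_two]; exact h.sq a ha) (h.ne_one a ha)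
      rw [← this]
      exact orderOf_dvd_natCard a
    have k2 : 3 ∣ Nat.card G := by
      rw [← hcard]
      exact Subgroup.card_subgroup_dvd_card _
    have : Nat.Coprime 2 3 := by decide
    exact this.mul_dvd_of_dvd_of_dvd k1 k2
  have hGle : Nat.card G ≤ 6 := by
    rw [← hP]
    exact Nat.card_le_card_of_injective π hπ
  have hG : Nat.card G = 6 := by
    obtain ⟨k, hk⟩ := hG6
    have : 0 < Nat.card G := Nat.card_pos
    have : k = 1 := by
      rcases k with _ | _ | k
      · omega
      · rfl
      · omega
    omega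
  have hbij : Function.Bijective π :=
    (Nat.bijective_iff_injective_and_card π).2 ⟨hπ, by rw [hG, hP]⟩
  let f : ↥D ≃ Fin 3 := Finite.equivFinOfCardEq h3
  let e : G ≃* Equiv.Perm (Fin 3) := (MulEquiv.ofBijective π hbij).trans f.permCongrHom
  refine ⟨e, ?_⟩
  have hinv : ∀ σ : Equiv.Perm (Fin 3), σ * σ = 1 → σ ≠ 1 → σ.IsSwap := by
    have : ∀ σ : Equiv.Perm (Fin 3), σ * σ = 1 → σ ≠ 1 → ∃ x y, x ≠ y ∧ σ = Equiv.swap x y := by
      decide
    exact this
  apply Set.Subset.antisymm
  · rintro _ ⟨x, hx, rfl⟩
    apply hinv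
    · rw [← map_mul, h.sq x hx, map_one]
    · intro h5
      exact h.ne_one x hx (e.injective (by rw [h5, map_one]))
  · intro σ hσ
    have h5 : (e a).IsSwap := by
      apply hinv
      · rw [← map_mul, h.sq a ha, map_one]
      · intro h5
        exact h.ne_one a ha (e.injective (by rw [h5, map_one]))
    obtain ⟨x, y, hxy, h6⟩ := h5
    obtain ⟨z, w, hzw, h7⟩ := (show σ.IsSwap from hσ)
    obtain ⟨τ, hτ⟩ := isConj_iff.1 (Equiv.Perm.isConj_swap hxy hzw)
    refine ⟨e.symm τ * a * (e.symm τ)⁻¹, h.conj _ a ha, ?_⟩
    rw [map_mul, map_mul, map_inv, e.apply_symm_apply, h6, hτ, h7]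

/-- **The two cases.** -/
theorem fgroup_or_three [Finite G] (hD : IsThreeTranspositionClass D)
    (hZ : Subgroup.center G = ⊥) (hs : IsSimpleGroup (commutator G)) :
    FGroup D ∨ ∃ e : G ≃* Equiv.Perm (Fin 3),
      e '' D = {σ : Equiv.Perm (Fin 3) | σ.IsSwap} := by
  by_cases hna : ∃ x y : commutator G, x * y ≠ y * x
  · exact Or.inl (fgroup_of_simple hD hZ hs hna)
  · push Not at hna
    exact Or.inr (sym_three hD hZ hs hna)

/-- the centre of a Fischer group is trivial -/
theorem center_eq_bot (F : FGroup D) : Subgroup.center G = ⊥ := by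
  apply F.sol _ inferInstance
  exact Group.isSolvable_of_comm fun a b =>
    Subtype.ext ((Subgroup.mem_center_iff.1 b.2) a)

end Cfsg.Agent.H805.FG
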