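import Cfsg.Agent.H805.Comp
import Cfsg.Agent.ThreeTrans375.Blocks
set_option linter.all false

-- part: H805/Prim
section
/-!
Primitivity of 3-transposition groups whose 2-core and 3-core are central.
-/

set_option autoImplicit false

namespace Cfsg.Agent.H805.Prim

open Cfsg Cfsg.Agent.SporadicB.ThreeTrans Cfsg.Agent.ThreeTrans375.Basic Cfsg.Agent.H805.Base
  Cfsg.Agent.H805.Comp Cfsg.Agent.ThreeTrans375.Blocks

variable {G : Type*} [Group G] {D : Set G}

/-- conjugation image -/
theorem conj_image_comp (g h : G) (B : Set G) :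
    (fun x => g * x * g⁻¹) '' ((fun x => h * x * h⁻¹) '' B) = (fun x => (g * h) * x * (g * h)⁻¹) '' B := by
  rw [Set.image_image]
  congr 1
  ext x
  group

/-- The relation of lying in a common translate of `B`. -/
def rel (B : Set G) (a b : G) : Prop :=
  ∃ g : G, a ∈ (fun x => g * x * g⁻¹) '' B ∧ b ∈ (fun x => g * x * g⁻¹) '' B

/-- A block of the conjugation action gives a block system. -/
theorem blockSystem (hD : IsThreeTranspositionClass D) {B : Set G} (hBD : B ⊆ D)
    (hB : ∀ g : G, (fun x => g * x * g⁻¹) '' B = B ∨ Disjoint ((fun x => g * x * g⁻¹) '' B) B)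
    (hne : B.Nonempty) : BlockSystem D (rel B) := by
  have hE := hD.1
  have hC := conjClosed_of_class hD
  -- two translates with a common point agree
  have htr : ∀ g h : G, ∀ x : G, x ∈ (fun x => g * x * g⁻¹) '' B → x ∈ (fun x => h * x * h⁻¹) '' B →
      (fun x => g * x * g⁻¹) '' B = (fun x => h * x * h⁻¹) '' B := by
    intro g h x hxg hxh
    have h1 : h⁻¹ * x * h⁻¹⁻¹ ∈ (fun x => (h⁻¹ * g) * x * (h⁻¹ * g)⁻¹) '' B := by
      rw [← conj_image_comp]
      exact ⟨x, hxg, rfl⟩
    have h2 : h⁻¹ * x * h⁻¹⁻¹ ∈ B := by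
      obtain ⟨y, hy, rfl⟩ := hxh
      have e : h⁻¹ * ((fun x => h * x * h⁻¹) y) * h⁻¹⁻¹ = y := by
        show h⁻¹ * (h * y * h⁻¹) * h⁻¹⁻¹ = y
        group
      rw [e]; exact hy
    rcases hB (h⁻¹ * g) with h3 | h3
    · have h4 := congrArg (fun S => (fun x => h * x * h⁻¹) '' S) h3
      have h5 : (fun x => (h * (h⁻¹ * g)) * x * (h * (h⁻¹ * g))⁻¹) '' B =
          (fun x => h * x * h⁻¹) '' B := by
        rw [← conj_image_comp]; exact h4
      have e : h * (h⁻¹ * g) = g := by group
      rw [e] at h5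
      exact h5
    · exact absurd h2 (Set.disjoint_left.1 h3 h1)
  refine ⟨?_, ?_, ?_, ?_, ?_⟩
  · intro a ha
    obtain ⟨b, hb⟩ := hne
    obtain ⟨g, hg⟩ := exists_conj_of_class hD (hBD hb) ha
    exact ⟨g, ⟨b, hb, hg⟩, ⟨b, hb, hg⟩⟩
  · rintro a _ b _ ⟨g, h1, h2⟩
    exact ⟨g, h2, h1⟩
  · rintro a _ b _ c _ ⟨g, h1, h2⟩ ⟨h, h3, h4⟩
    refine ⟨g, h1, ?_⟩
    rw [htr g h b h2 h3]; exact h4
  · rintro g a _ b _ ⟨h, h1, h2⟩
    refine ⟨g * h, ?_, ?_⟩
    · rw [← conj_image_comp]; exact ⟨a, h1, rfl⟩
    · rw [← conj_image_comp]; exact ⟨b, h2, rfl⟩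
  · rintro a ha b hb x hx ⟨g, h1, h2⟩ hax hxa
    by_contra hxb
    -- `x` fixes `a`, hence its block, so `x b x` is in the block of `b`
    have h3 : (fun y => x * y * x⁻¹) '' ((fun x => g * x * g⁻¹) '' B) =
        (fun x => g * x * g⁻¹) '' B := by
      rw [conj_image_comp]
      apply htr (x * g) g a _ h1
      rw [← conj_image_comp]
      exact ⟨a, h1, conj_eq_self_iff.2 hxa⟩
    have h4 : x * b * x⁻¹ ∈ (fun x => g * x * g⁻¹) '' B := by
      rw [← h3]; exact ⟨b, h2, rfl⟩
    -- `x b x = b x b`, so `x` is in the `b`-translate, which is the block itself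
    have h5 : (fun y => b * y * b⁻¹) '' ((fun x => g * x * g⁻¹) '' B) =
        (fun x => g * x * g⁻¹) '' B := by
      rw [conj_image_comp]
      apply htr (b * g) g b _ h2
      rw [← conj_image_comp]
      exact ⟨b, h2, by group⟩
    rw [inv_eq hE hx, braid hE hx hb hxb] at h4
    have h6 : x ∈ (fun x => g * x * g⁻¹) '' B := by
      rw [← h5]
      refine ⟨b * x * b, h4, ?_⟩
      show b * (b * x * b) * b⁻¹ = x
      rw [inv_eq hE hb]
      calc b * (b * x * b) * b = (b * b) * x * (b * b) := by simp only [mul_assoc]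
        _ = x := by rw [mul_self hE hb, one_mul, mul_one]
    exact hax ⟨g, h1, h6⟩

/-- A normal subgroup containing `F*(G) = L Z(G)`-style component: every noncentral normal subgroup
contains the component `L`. -/
theorem component_le_of_normal [Finite G] (hD : IsThreeTranspositionClass D)
    (h2 : pCore 2 G ≤ Subgroup.center G) (h3 : pCore 3 G ≤ Subgroup.center G)
    {L : Subgroup G} (hL : IsComponent L)
    (hF : generalizedFittingSubgroup G = L ⊔ Subgroup.center G)
    {K : Subgroup G} (hK : K.Normal) (hKc : ¬ K ≤ Subgroup.center G) : L ≤ K := by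
  rcases SignalizersComponents.Components.component_le_or_commutator_eq_bot hL hK.isSubnormal
    with h | h
  · exact h
  exfalso
  -- `K` centralises `F*(G)`
  have h1 : K ≤ Subgroup.centralizer (L : Set G) := by
    rw [Subgroup.commutator_comm, Subgroup.commutator_eq_bot_iff_le_centralizer] at h
    exact h
  have h4 : ¬ Group.IsSolvable K := fun hs => hKc (solvable_le_center hD h2 h3 hK hs)
  have hFc := fitting_le_center hD h2 h3
  obtain ⟨K', hK', hK'K⟩ := SignalizersComponents.ComponentExists.exists_isComponent_le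
    hK.isSubnormal h4 (by
      intro x _
      rw [Subgroup.mem_centralizer_iff]
      intro y hy
      exact ((Subgroup.mem_center_iff.1 (hFc hy)) x).symm)
  have h5 := component_unique hD hK' hL
  subst h5
  have h6 : ⁅K', K'⁆ = ⊥ := by
    rw [Subgroup.commutator_eq_bot_iff_le_centralizer]
    exact hK'K.trans h1
  rw [SignalizersComponents.Components.component_commutator_self hK'] at h6
  exact SignalizersComponents.Components.component_ne_bot hK' h6

theorem comm_of_card_le {Q : Type*} [Group Q] [Finite Q] (h : Nat.card Q ≤ 2) (u v : Q) :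
    u * v = v * u := by
  by_contra hne
  have h1 : u ≠ 1 := by rintro rfl; simp at hne
  have h2 : v ≠ 1 := by rintro rfl; simp at hne
  have h3 : u ≠ v := by rintro rfl; exact hne rfl
  have h4 : ({1, u, v} : Set Q).ncard = 3 := by
    rw [Set.ncard_insert_of_notMem (by simp [h1.symm, h2.symm]), Set.ncard_pair h3]
  have h5 := Set.ncard_le_card ({1, u, v} : Set Q)
  omega

/-- Primitivity. -/
theorem isPrimitive [Finite G] (hD : IsThreeTranspositionClass D)
    (hD2 : ∃ a ∈ D, ∃ b ∈ D, a ≠ b)
    (h2 : pCore 2 G ≤ Subgroup.center G) (h3 : pCore 3 G ≤ Subgroup.center G)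
    {L : Subgroup G} (hL : IsComponent L)
    (hF : generalizedFittingSubgroup G = L ⊔ Subgroup.center G) (hi : L.index ≤ 2) :
    IsPrimitiveUnderConj D := by
  have hE := hD.1
  have hC := conjClosed_of_class hD
  refine ⟨fun a ha b hb => exists_conj_of_class hD ha hb, hD2, fun B hBD hB => ?_⟩
  by_contra hcon
  push Not at hcon
  obtain ⟨hsub, hBne⟩ := hcon
  obtain ⟨a, ha, b, hb, hab⟩ := hsub
  have haD := hBD ha
  have hbD := hBD hb
  have hr := blockSystem hD hBD hB ⟨a, ha⟩
  have hKn := kernel_normal hC hr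
  have hrab : rel B a b := ⟨1, ⟨a, ha, by simp⟩, ⟨b, hb, by simp⟩⟩
  have h4 := mul_mem_kernel hE hC hr haD hbD hrab
  have h5 : ¬ kernel hC hr ≤ Subgroup.center G := fun h =>
    hab (eq_of_mul_mem_center hD hD2 haD hbD (h h4))
  have h6 := component_le_of_normal hD h2 h3 hL hF hKn h5
  -- all members of `D` are congruent modulo `L`
  have h7 : ∀ x ∈ D, ∀ y ∈ D, x * y ∈ L := by
    have hLn := component_normal hD hL
    have hgL : ∀ x ∈ D, ∀ g : G, x * (g * x * g⁻¹) ∈ L := by
      intro x hx g
      have hcard : Nat.card (G ⧸ L) ≤ 2 := by rw [← Subgroup.index_eq_card]; exact hi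
      have hcomm : ∀ u v : G ⧸ L, u * v = v * u := comm_of_card_le hcard
      rw [← QuotientGroup.eq_one_iff]
      have hx2 : (QuotientGroup.mk x : G ⧸ L) * QuotientGroup.mk x = 1 := by
        rw [← QuotientGroup.mk_mul, mul_self hE hx]; rfl
      calc (QuotientGroup.mk (x * (g * x * g⁻¹)) : G ⧸ L)
          = (QuotientGroup.mk x : G ⧸ L) * (QuotientGroup.mk g * QuotientGroup.mk x *
            (QuotientGroup.mk g)⁻¹) := rfl
        _ = (QuotientGroup.mk x : G ⧸ L) * (QuotientGroup.mk x * QuotientGroup.mk g *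
            (QuotientGroup.mk g)⁻¹) := by rw [hcomm (QuotientGroup.mk g) (QuotientGroup.mk x)]
        _ = 1 := by rw [mul_assoc, mul_inv_cancel, mul_one, hx2]
    intro x hx y hy
    obtain ⟨g, rfl⟩ := exists_conj_of_class hD hx hy
    exact hgL x hx g
  apply hBne
  apply Set.Subset.antisymm hBD
  have hS : D ⊆ {y | y ∈ D ∧ rel B a y} := by
    refine subset_of_closed (S := {y | y ∈ D ∧ rel B a y}) hD haD ⟨haD, hr.refl a haD⟩ ?_
    rintro y ⟨hy, hay⟩ x hx
    refine ⟨third_mem hE hC hx hy, ?_⟩
    have hk : a * x ∈ kernel hC hr := h6 (h7 a haD x hx)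
    have h8 : rel B ((a * x) * y * (a * x)⁻¹) y := hk y hy
    have h8D : (a * x) * y * (a * x)⁻¹ ∈ D := hC _ y hy
    have h9 : rel B ((a * x) * y * (a * x)⁻¹) a :=
      hr.trans _ h8D y hy a haD h8 (hr.symm a haD y hy hay)
    have h10 := hr.conj a _ h8D a haD h9
    have e1 : a * ((a * x) * y * (a * x)⁻¹) * a⁻¹ = x * y * x := by
      rw [mul_inv_rev, inv_eq hE haD, inv_eq hE hx]
      calc a * (a * x * y * (x * a)) * a = (a * a) * (x * y * x) * (a * a) := by
            simp only [mul_assoc]
        _ = x * y * x := by rw [mul_self hE haD, one_mul, mul_one]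
    have e2 : a * a * a⁻¹ = a := by group
    rw [e1, e2] at h10
    exact hr.symm _ (third_mem hE hC hx hy) a haD h10
  intro y hy
  obtain ⟨g, hg1, hg2⟩ := (hS hy).2
  rcases hB g with h8 | h8
  · rwa [h8] at hg2
  · exact absurd ha (Set.disjoint_left.1 h8 hg1)

end Cfsg.Agent.H805.Prim
end

-- part: H805/Index
section
/-!
Connected commuting graph implies index at most 2.
-/

set_option autoImplicit false

namespace Cfsg.Agent.H805.Index

open Cfsg Cfsg.Agent.SporadicB.ThreeTrans Cfsg.Agent.ThreeTrans375.Basic Cfsg.Agent.H805.Base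
  Cfsg.Agent.H805.Comp Cfsg.Agent.H805.Prim

variable {G : Type*} [Group G] {D : Set G}

theorem isComponent_of_normal {L : Subgroup G} (hn : L.Normal) (hL : IsQuasisimple L) :
    IsComponent L := ⟨hn.isSubnormal, hL⟩

theorem commute_of_adj {x y : D} (h : (commutingGraph D).Adj x y) : Commute (x : G) (y : G) := by
  rw [commutingGraph, SimpleGraph.fromRel_adj] at h
  rcases h.2 with h1 | h1
  · exact h1
  · exact h1.symm

theorem adj_of_commute {x y : D} (hne : x ≠ y) (h : Commute (x : G) (y : G)) :
    (commutingGraph D).Adj x y := by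
  rw [commutingGraph, SimpleGraph.fromRel_adj]
  exact ⟨hne, Or.inl h⟩

theorem mul_mem_of_connected [Finite G] (hD : IsThreeTranspositionClass D)
    {L : Subgroup G} (hL : IsComponent L) (hc : (commutingGraph D).Connected) :
    ∀ x y : D, (x : G) * (y : G) ∈ L := by
  have hE := hD.1
  have hstep : ∀ x y : D, (commutingGraph D).Adj x y → (x : G) * (y : G) ∈ L := by
    intro x y h
    apply mul_mem_of_commute hD hL x.2 y.2
    have h1 := commute_of_adj h
    rw [h1.eq, mul_assoc (y : G), mul_inv_cancel, mul_one, mul_inv_cancel]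
    exact L.one_mem
  intro x y
  obtain ⟨w⟩ := hc.preconnected x y
  induction w with
  | nil => rw [mul_self hE (Subtype.mem _)]; exact L.one_mem
  | cons h _ ih =>
    rename_i u v w _
    have h1 := L.mul_mem (hstep u v h) ih
    have e : (u : G) * v * (v * w) = u * (v * v) * w := by simp only [mul_assoc]
    rw [e, mul_self hE v.2, mul_one] at h1
    exact h1

theorem index_le_two [Finite G] (hD : IsThreeTranspositionClass D)
    {L : Subgroup G} (hLn : L.Normal) (h : ∀ x ∈ D, ∀ y ∈ D, x * y ∈ L) : L.index ≤ 2 := by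
  have hE := hD.1
  obtain ⟨a, ha, _⟩ := hD.2.1
  have key : ∀ g ∈ Subgroup.closure D, g ∈ L ∨ a * g ∈ L := by
    intro g hg
    have hstep : ∀ x ∈ D, ∀ g : G, (g ∈ L ∨ a * g ∈ L) → (x * g ∈ L ∨ a * (x * g) ∈ L) := by
      intro x hx g hg
      rcases hg with hg | hg
      · right
        rw [← mul_assoc]
        exact L.mul_mem (h a ha x hx) hg
      · left
        have h1 := L.mul_mem (h x hx a ha) hg
        have e : x * a * (a * g) = x * (a * a) * g := by simp only [mul_assoc]
        rw [e, mul_self hE ha, mul_one] at h1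
        exact h1
    induction hg using Subgroup.closure_induction_left with
    | one => exact Or.inl L.one_mem
    | mul_left x hx y _ ih => exact hstep x hx y ih
    | inv_mul_cancel x hx y _ ih =>
      rw [inv_eq hE hx]
      exact hstep x hx y ih
  rw [Subgroup.index_eq_card]
  have hsurj : Function.Surjective (fun b : Bool => if b then (1 : G ⧸ L) else QuotientGroup.mk a) := by
    intro q
    induction q using QuotientGroup.induction_on with
    | H g =>
      rcases key g (by rw [hD.2.2]; exact Subgroup.mem_top g) with h1 | h1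
      · exact ⟨true, by simpa using ((QuotientGroup.eq_one_iff g).2 h1).symm⟩
      · refine ⟨false, ?_⟩
        simp only [Bool.false_eq_true, if_false]
        rw [QuotientGroup.eq, inv_eq hE ha]
        exact h1
  have h1 := Nat.card_le_card_of_surjective _ hsurj
  simpa using h1

end Cfsg.Agent.H805.Index
end
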