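import Cfsg.Agent.H805.NilSp_m3
import Cfsg.Agent.BpSpor.HSInv
import Cfsg.Agent.H14.KnownSimple
import Cfsg.Agent.Prune
set_option linter.all false
prune_inst 0x7f00000000000000000000000000000000000000000000000000000000000000000000000000000000000000000000000000000000000000000000000000000000000000000000000000000000000000003fffffffffffffffffffffffffffbeffbdffffffff
open scoped Cfsg.Agent.FastGrp

/-!
# Nilpotent subgroups of HS (helper805, task 428 for S2242)

`small_HS` : `|N| ^ 2 < |G|` for nilpotent `N`.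
-/

set_option autoImplicit false

namespace Cfsg.Agent.H805.NilSp

open Cfsg Subgroup Cfsg.Agent.H972 Cfsg.Agent.H972.NSm
open Cfsg.Agent.KFacts.HS Cfsg.Agent.KFacts.HS.DFour

universe u

variable {L : Type*} [Group L]

/-- the order of the centralizer of a 2B involution -/
theorem card_cent_wB [Finite L] (D : Cfsg.Agent.KFacts.HS.Mod L) (hL : Nat.card L = 44352000) :
    Nat.card ↥(centralizer ({wB D} : Set L)) ∣ 2880 := by
  set C := centralizer ({wB D} : Set L) with hC
  have hle : LA D ≤ C := CTwoTab.HS.LA_le D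
  -- `LA` is normal in `C`
  have hn : ∀ c ∈ C, ∀ l ∈ LA D, c * l * c⁻¹ ∈ LA D := by
    intro c hc l hl
    have h1 : (LA D).map (MulAut.conj c).toMonoidHom ≤ LA D := by
      refine CTwoTab.HS.perfect_le_LA D _ ?_ ?_
      · rintro _ ⟨y, hy, rfl⟩
        exact C.mul_mem (C.mul_mem hc (hle hy)) (C.inv_mem hc)
      · rw [← Subgroup.map_commutator, perf_LA]
    exact h1 ⟨l, hl, rfl⟩
  set N : Subgroup ↥C := (LA D).subgroupOf C with hN
  have hNn : N.Normal := ⟨fun e he q => mem_subgroupOf.2 (hn q q.2 e he)⟩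
  have cN : Nat.card N = 360 := by
    rw [Nat.card_congr (subgroupOfEquivOfLe hle).toEquiv, card_LA]
  have h4 : Nat.card (↥C ⧸ N) * Nat.card N = Nat.card ↥C := (Subgroup.card_eq_card_quotient_mul_card_subgroup N).symm
  rw [cN] at h4
  have h5 : Nat.card ↥C ≤ 2880 := card_C D
  have h6 : Nat.card ↥C ∣ 44352000 := by rw [← hL]; exact card_subgroup_dvd_card C
  have h7 : Nat.card (↥C ⧸ N) ≤ 8 := by omega
  have h8 : 2 ∣ Nat.card (↥C ⧸ N) := by
    have h9 : orderOf (QuotientGroup.mk' N ⟨wB D, mem_centralizer_singleton_iff.2 rfl⟩) = 2 := by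
      refine orderOf_eq_prime ?_ ?_
      · rw [← map_pow]
        have h10 : (⟨wB D, mem_centralizer_singleton_iff.2 rfl⟩ : ↥C) ^ 2 = 1 :=
          Subtype.ext (by rw [Subgroup.coe_pow, pow_two]; exact wB_sq D)
        rw [h10, map_one]
      · intro h
        rw [← MonoidHom.mem_ker, QuotientGroup.ker_mk'] at h
        exact wB_not_mem_LA D (mem_subgroupOf.1 h)
    rw [← h9]
    exact _root_.orderOf_dvd_natCard _
  rw [← h4] at h6 ⊢
  generalize Nat.card (↥C ⧸ N) = m at *
  obtain ⟨j, rfl⟩ := h8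
  have h10 : j ≤ 4 := by omega
  interval_cases j
  · simp at h6
  · norm_num
  · norm_num
  · norm_num at h6
  · norm_num

theorem small_HS {G : Type u} [Group G] [Finite G] (h : Cfsg.Spor.IsoHS G)
    (_hI : ∀ (H : Type u) [Group H] [Finite H], IsSimpleGroup H → ¬ IsMulCommutative H → Nat.card H < Nat.card G →
      NSm.Small H) : NSm.Small G := by
  have hc := KFacts.HS.card h
  obtain ⟨D⟩ := KFacts.HS.exists_mod h
  have hs : IsSimpleGroup G := by
    obtain ⟨e⟩ := h
    exact H14.KnownSimple.of_equiv H14.KnownSimple.simple_HS e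
  -- the centralizers of the involutions
  have hcent : ∀ t : G, orderOf t = 2 → Nat.card ↥(centralizer ({t} : Set G)) ∣ 2 ^ 9 * 3 ^ 2 * 5 := by
    intro t ht
    have htt : t * t = 1 := by rw [← pow_two, ← ht, pow_orderOf_eq_one]
    have ht1 : t ≠ 1 := by
      rintro rfl
      rw [orderOf_one] at ht
      omega
    rcases inv_cases D t htt ht1 with ⟨c, h⟩ | ⟨c, h⟩
    · rw [card_cent_isConj (isConj_iff.2 ⟨c, h⟩), ← BpSpor.HSInv.z_eq, D.card_centralizer]
      norm_num
    · rw [card_cent_isConj (isConj_iff.2 ⟨c, h⟩)]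
      exact (card_cent_wB D hc).trans (by norm_num)
  have hbd : ∀ (N : Subgroup G), Group.IsNilpotent ↥N → 2 ∣ Nat.card ↥N → ∀ p : ℕ, p = 3 ∨ p = 5 → p ∣ Nat.card ↥N →
      ∃ n, Nat.card ↥N ∣ 32 * p ^ n := by
    intro N hN h2N p hp hpN
    have hpp : p.Prime := by rcases hp with rfl | rfl <;> norm_num
    obtain ⟨t, ht, htN, hle⟩ := exists_le_centralizer hN Nat.prime_two h2N
    obtain ⟨x, hx, hxN, hle'⟩ := exists_le_centralizer hN hpp hpN
    obtain ⟨n, hn⟩ := BpSpor.HSInv.bd D hp t ht x hx (mem_centralizer_singleton_iff.1 (hle hxN))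
    exact ⟨n, (card_dvd_of_le (le_inf hle hle')).trans hn⟩
  have h2 : SmallAt 2 G := by
    intro N hN h2N
    obtain ⟨t, ht, htN, hle⟩ := exists_le_centralizer hN Nat.prime_two h2N
    have hd := (card_dvd_of_le hle).trans (hcent t ht)
    have hle4 : Nat.card ↥N ≤ 4608 := by
      by_cases h3 : 3 ∣ Nat.card ↥N
      · obtain ⟨n, hn⟩ := hbd N hN h2N 3 (Or.inl rfl) h3
        have h5 : ¬ 5 ∣ Nat.card ↥N := by
          intro h5
          have h1 := h5.trans hn
          rcases (Nat.Prime.dvd_mul Nat.prime_five).1 h1 with h6 | h6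
          · norm_num at h6
          · have := Nat.prime_five.dvd_of_dvd_pow h6
            norm_num at this
        exact Nat.le_of_dvd (by norm_num) (Nat.Coprime.dvd_of_dvd_mul_right
          ((Nat.Prime.coprime_iff_not_dvd Nat.prime_five).2 h5).symm hd)
      · have h1 : Nat.card ↥N ∣ 2 ^ 9 * 5 := by
          rw [show (2 : ℕ) ^ 9 * 3 ^ 2 * 5 = (2 ^ 9 * 5) * 3 ^ 2 by norm_num] at hd
          exact Nat.Coprime.dvd_of_dvd_mul_right
            (((Nat.Prime.coprime_iff_not_dvd Nat.prime_three).2 h3).symm.pow_right 2) hd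
        exact (Nat.le_of_dvd (by norm_num) h1).trans (by norm_num)
    rw [hc]
    exact (Nat.pow_le_pow_left hle4 2).trans_lt (by norm_num)
  have hno2 : ∀ p : ℕ, p.Prime → p = 7 ∨ p = 11 → NoComm p 2 G := by
    intro p hp h7
    refine NoComm.symm (noComm_of_not_dvd fun t ht hpd => ?_)
    have h1 := hpd.trans (hcent t ht)
    rcases h7 with rfl | rfl <;> norm_num at h1
  refine small_of_chk 9 86625 14 (by rw [hc]; norm_num) (by norm_num) (by norm_num) []
    [7, 11] [] [1, 3, 5, 7, 9, 11] (by decide +kernel) (by simp) ?_ (by simp) h2 (by decide +kernel)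
  intro r hr
  simp only [List.mem_cons, List.not_mem_nil, or_false] at hr
  rcases hr with rfl | rfl
  · exact ⟨by norm_num, by norm_num, by norm_num, hno2 _ (by norm_num) (Or.inl rfl)⟩
  · exact ⟨by norm_num, by norm_num, by norm_num, hno2 _ (by norm_num) (Or.inr rfl)⟩

end Cfsg.Agent.H805.NilSp
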