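import Cfsg.Agent.H805.Base
import Cfsg.Agent.ThreeTrans375.Blocks
set_option linter.all false

/-!
Components of 3-transposition groups whose 2-core and 3-core are central.
-/

set_option autoImplicit false

namespace Cfsg.Agent.H805.Comp

open Cfsg Cfsg.Agent.SporadicB.ThreeTrans Cfsg.Agent.ThreeTrans375.Basic Cfsg.Agent.H805.Base

variable {G : Type*} [Group G] {D : Set G}

/-- A member of a set of 3-transpositions (closed under conjugation) normalises each component. -/
theorem normalises_component [Finite G] (hE : IsThreeTranspositionSet D) (hC : ConjClosed D)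
    {K : Subgroup G} (hK : IsComponent K) {d : G} (hd : d ∈ D) :
    K.map (MulAut.conj d).toMonoidHom = K := by
  by_contra hne
  set K' := K.map (MulAut.conj d).toMonoidHom with hK'
  have hK'c : IsComponent K' := SignalizersComponents.Components.isComponent_conj d hK
  have hcomm := SignalizersComponents.Components.component_le_centralizer_of_ne hK'c hK hne
  -- for `x ∈ K` the element `x` commutes with its `d`-conjugate
  have hc : ∀ x ∈ K, ∀ y ∈ K, Commute y (d * x * d⁻¹) := by
    intro x hx y hy
    have h1 : d * x * d⁻¹ ∈ K' := ⟨x, hx, by simp⟩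
    exact (Subgroup.mem_centralizer_iff.1 (hcomm h1)) y hy
  -- each element of `K` has its square or cube in the centre of `K`
  have hpow : ∀ x ∈ K, ∀ k : ℕ, (d * (x * d * x⁻¹)) ^ k = 1 → ∀ y ∈ K, Commute y (x ^ k) := by
    intro x hx k hk y hy
    have e : d * (x * d * x⁻¹) = (d * x * d⁻¹) * x⁻¹ := by
      rw [inv_eq hE hd]; simp only [mul_assoc]
    rw [e] at hk
    have h1 : Commute (d * x * d⁻¹) x⁻¹ := ((hc x hx x hx).symm).inv_right
    rw [h1.mul_pow, conj_pow, inv_pow, mul_inv_eq_one] at hk
    rw [← hk]
    exact hc (x ^ k) (K.pow_mem hx k) y hy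
  have hsol : Group.IsSolvable (K ⧸ Subgroup.center K) := by
    apply ThreeTrans375.Solv23.solvable_of_pow
    intro q
    induction q using QuotientGroup.induction_on with
    | H x =>
      have key : ∀ k : ℕ, (d * ((x : G) * d * (x : G)⁻¹)) ^ k = 1 →
          (QuotientGroup.mk x : K ⧸ Subgroup.center K) ^ k = 1 := by
        intro k hk
        rw [← QuotientGroup.mk_pow, QuotientGroup.eq_one_iff, Subgroup.mem_center_iff]
        intro y
        apply Subtype.ext
        exact hpow x x.2 k hk y y.2
      rcases hE.2 d hd _ (hC (x : G) d hd) with h | h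
      · exact Or.inl (key 2 h)
      · exact Or.inr (key 3 h)
  have hKs : Group.IsSolvable K := by
    have hcs : Group.IsSolvable (Subgroup.center K) :=
      Group.isSolvable_of_comm fun a b => Subtype.ext ((Subgroup.mem_center_iff.1 b.2) a)
    have h1 : Group.IsSolvable (QuotientGroup.mk' (Subgroup.center K)).ker := by
      rw [QuotientGroup.ker_mk']; exact hcs
    exact Group.isSolvable_of_ker_le_range (Subgroup.center K).subtype
      (QuotientGroup.mk' (Subgroup.center K)) (by rw [Subgroup.range_subtype, QuotientGroup.ker_mk'])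
  exact SignalizersComponents.Components.quasisimple_not_isSolvable hK.2 hKs

theorem conj_mem_component [Finite G] (hE : IsThreeTranspositionSet D) (hC : ConjClosed D)
    {K : Subgroup G} (hK : IsComponent K) {d : G} (hd : d ∈ D) {x : G} (hx : x ∈ K) :
    d * x * d⁻¹ ∈ K := by
  have h := normalises_component hE hC hK hd
  have h1 : d * x * d⁻¹ ∈ K.map (MulAut.conj d).toMonoidHom := ⟨x, hx, by simp⟩
  rwa [h] at h1

/-- Components are normal. -/
theorem component_normal [Finite G] (hD : IsThreeTranspositionClass D)
    {K : Subgroup G} (hK : IsComponent K) : K.Normal := by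
  have hE := hD.1
  have hC := conjClosed_of_class hD
  have h1 : Subgroup.closure D ≤ Subgroup.normalizer (K : Set G) := by
    rw [Subgroup.closure_le]
    intro d hd
    rw [SetLike.mem_coe, Subgroup.mem_normalizer_iff_map_conj_eq]
    exact normalises_component hE hC hK hd
  rw [hD.2.2, top_le_iff, Subgroup.normalizer_eq_top_iff] at h1
  exact h1

/-- No member centralises a component. -/
theorem not_centralises [Finite G] (hD : IsThreeTranspositionClass D)
    {K : Subgroup G} (hK : IsComponent K) {d : G} (hd : d ∈ D) :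
    ¬ ∀ x ∈ K, Commute x d := by
  intro h
  have hC := conjClosed_of_class hD
  have hKn := component_normal hD hK
  have h1 : K ≤ Subgroup.center G := by
    refine le_center_of_commute hD.2.2 fun e he x hx => ?_
    obtain ⟨g, rfl⟩ := exists_conj_of_class hD hd he
    have h2 := h _ (hKn.conj_mem x hx g⁻¹)
    have h3 := (commute_conj_iff g).2 h2
    have e : g * (g⁻¹ * x * g⁻¹⁻¹) * g⁻¹ = x := by group
    rwa [e] at h3
  have h2 := eq_bot_of_perfect_of_le_center hK.2.1 h1
  exact SignalizersComponents.Components.component_ne_bot hK h2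

/-- for each component there is an `x` such that the product has order exactly 2 -/
theorem exists_two [Finite G] (hD : IsThreeTranspositionClass D)
    {K : Subgroup G} (hK : IsComponent K) {d : G} (hd : d ∈ D) :
    ∃ x ∈ K, (d * (x * d * x⁻¹)) ^ 2 = 1 ∧ d * (x * d * x⁻¹) ≠ 1 := by
  by_contra hcon
  push Not at hcon
  have hE := hD.1
  have hC := conjClosed_of_class hD
  apply not_centralises hD hK hd
  refine commute_of_all_cube (good_component hK) (mul_self hE hd)
    (fun x hx => conj_mem_component hE hC hK hd hx) fun x hx => ?_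
  rcases hE.2 d hd _ (hC x d hd) with h | h
  · rw [hcon x hx h, one_pow]
  · exact h

/-- for each component there is an `x` such that the product has order exactly 3 -/
theorem exists_three [Finite G] (hD : IsThreeTranspositionClass D)
    {K : Subgroup G} (hK : IsComponent K) {d : G} (hd : d ∈ D) :
    ∃ x ∈ K, (d * (x * d * x⁻¹)) ^ 3 = 1 ∧ d * (x * d * x⁻¹) ≠ 1 := by
  by_contra hcon
  push Not at hcon
  have hE := hD.1
  have hC := conjClosed_of_class hD
  apply not_centralises hD hK hd
  refine commute_of_all_commute (good_component hK) fun x hx => ?_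
  rcases hE.2 d hd _ (hC x d hd) with h | h
  · have h3 : d * (x * d * x⁻¹) * (d * (x * d * x⁻¹)) = 1 := by rw [← pow_two]; exact h
    have h4 : d * (x * d * x⁻¹) = (d * (x * d * x⁻¹))⁻¹ := eq_inv_of_mul_eq_one_left h3
    show d * (x * d * x⁻¹) = (x * d * x⁻¹) * d
    rw [h4, mul_inv_rev, inv_eq hE hd, inv_eq hE (hC x d hd)]
  · rw [eq_of_mul_eq_one hE hd (hcon x hx h)]

/-- There is only one component. -/
theorem component_unique [Finite G] (hD : IsThreeTranspositionClass D)
    {K L : Subgroup G} (hK : IsComponent K) (hL : IsComponent L) : K = L := by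
  by_contra hne
  have hE := hD.1
  have hC := conjClosed_of_class hD
  obtain ⟨d, hd, _⟩ := hD.2.1
  have hcomm := SignalizersComponents.Components.component_le_centralizer_of_ne hK hL hne
  obtain ⟨x, hx, hx2, hx1⟩ := exists_two hD hK hd
  obtain ⟨y, hy, hy2, hy1⟩ := exists_three hD hL hd
  have hc : ∀ u ∈ K, ∀ v ∈ L, Commute u v := fun u hu v hv =>
    ((Subgroup.mem_centralizer_iff.1 (hcomm hu)) v hv).symm
  set u := d * (x * d * x⁻¹) with hu
  set v := d * (y * d * y⁻¹) with hv
  have huK : u ∈ K := by
    have e : u = (d * x * d⁻¹) * x⁻¹ := by rw [inv_eq hE hd]; simp only [hu, mul_assoc]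
    rw [e]
    exact K.mul_mem (conj_mem_component hE hC hK hd hx) (K.inv_mem hx)
  have hvL : v ∈ L := by
    have e : v = (d * y * d⁻¹) * y⁻¹ := by rw [inv_eq hE hd]; simp only [hv, mul_assoc]
    rw [e]
    exact L.mul_mem (conj_mem_component hE hC hL hd hy) (L.inv_mem hy)
  -- `[d, x y] = u v`
  have hprod : d * ((x * y) * d * (x * y)⁻¹) = u * v := by
    have h1 : v = (d * y * d⁻¹) * y⁻¹ := by rw [inv_eq hE hd]; simp only [hv, mul_assoc]
    have h2 : u = (d * x * d⁻¹) * x⁻¹ := by rw [inv_eq hE hd]; simp only [hu, mul_assoc]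
    have h3 : Commute x⁻¹ v := (hc x hx v hvL).inv_left
    have h4 : u * v = (d * x * d⁻¹) * (v * x⁻¹) := by rw [h2, mul_assoc, h3.eq]
    rw [h4, h1]
    calc d * (x * y * d * (x * y)⁻¹) = d * x * y * d * y⁻¹ * x⁻¹ := by group
      _ = d * x * y * d⁻¹ * y⁻¹ * x⁻¹ := by rw [inv_eq hE hd]
      _ = d * x * d⁻¹ * (d * y * d⁻¹ * y⁻¹ * x⁻¹) := by group
  have huv := hc u huK v hvL
  rcases hE.2 d hd _ (hC (x * y) d hd) with h | h
  · rw [hprod, huv.mul_pow, hx2, one_mul] at h
    apply hy1
    calc v = v ^ 3 * (v ^ 2)⁻¹ := by group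
      _ = 1 := by rw [hy2, h]; simp
  · rw [hprod, huv.mul_pow, hy2, mul_one] at h
    apply hx1
    calc u = u ^ 3 * (u ^ 2)⁻¹ := by group
      _ = 1 := by rw [hx2, h]; simp

/-- width one modulo a component -/
theorem mul_mem_of_commute [Finite G] (hD : IsThreeTranspositionClass D)
    {K : Subgroup G} (hK : IsComponent K) {a b : G} (ha : a ∈ D) (hb : b ∈ D)
    (h : a * b * a⁻¹ * b⁻¹ ∈ K) : a * b ∈ K := by
  have hE := hD.1
  have hC := conjClosed_of_class hD
  have hKn := component_normal hD hK
  by_contra hab
  -- every conjugate `x a x⁻¹`, `x ∈ K`, commutes with `b`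
  apply not_centralises hD hK hb
  have key : ∀ x ∈ K, Commute (x * a * x⁻¹) b := by
    intro x hx
    have hxa := hC x a ha
    rcases hE.2 _ hxa b hb with h1 | h1
    · have h3 : (x * a * x⁻¹) * b * ((x * a * x⁻¹) * b) = 1 := by rw [← pow_two]; exact h1
      have h4 : (x * a * x⁻¹) * b = ((x * a * x⁻¹) * b)⁻¹ := eq_inv_of_mul_eq_one_left h3
      show (x * a * x⁻¹) * b = b * (x * a * x⁻¹)
      rw [h4, mul_inv_rev, inv_eq hE hb, inv_eq hE hxa]
    · exfalso
      apply hab
      -- work modulo `K`
      have hq : ∀ g : G, g ∈ K ↔ (QuotientGroup.mk' K) g = 1 := by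
        intro g; rw [← MonoidHom.mem_ker, QuotientGroup.ker_mk']
      rw [hq] at h ⊢
      have hx' : (QuotientGroup.mk' K) x = 1 := (hq x).1 hx
      have h2 := congrArg (QuotientGroup.mk' K) h1
      rw [map_pow, map_mul, map_mul, map_mul, map_inv, hx', inv_one, mul_one, one_mul, map_one] at h2
      rw [map_mul, map_mul, map_mul, map_inv, map_inv] at h
      have ha2 : (QuotientGroup.mk' K) a * (QuotientGroup.mk' K) a = 1 := by
        rw [← map_mul, mul_self hE ha, map_one]
      have hb2 : (QuotientGroup.mk' K) b * (QuotientGroup.mk' K) b = 1 := by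
        rw [← map_mul, mul_self hE hb, map_one]
      rw [inv_eq_of_mul_eq_one_left ha2, inv_eq_of_mul_eq_one_left hb2] at h
      have h5 : ((QuotientGroup.mk' K) a * (QuotientGroup.mk' K) b) ^ 2 = 1 := by
        rw [pow_two]; simpa only [mul_assoc] using h
      rw [map_mul]
      calc (QuotientGroup.mk' K) a * (QuotientGroup.mk' K) b
          = ((QuotientGroup.mk' K) a * (QuotientGroup.mk' K) b) ^ 3 *
            (((QuotientGroup.mk' K) a * (QuotientGroup.mk' K) b) ^ 2)⁻¹ := by group
        _ = 1 := by rw [h2, h5]; simp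
  -- `b` centralises `⟨a^K⟩ ⊇ [K, a]`, a normal subgroup of `K`
  set C : Subgroup G := Subgroup.centralizer ({b} : Set G) with hCd
  have hbC : ∀ g : G, g ∈ C ↔ Commute g b := by
    intro g
    rw [hCd, Subgroup.mem_centralizer_iff]
    constructor
    · intro h; exact (h b rfl).symm
    · rintro h _ rfl; exact h.symm
  set M : Subgroup G := Subgroup.closure {t | ∃ x ∈ K, t = x * a * x⁻¹} with hM
  have hMC : M ≤ C := by
    rw [hM, Subgroup.closure_le]
    rintro _ ⟨x, hx, rfl⟩
    exact (hbC _).2 (key x hx)
  have hKM : K ≤ Subgroup.normalizer (M : Set G) := by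
    rw [hM, Subgroup.le_normalizer_closure_iff]
    rintro g hg _ ⟨x, hx, rfl⟩
    exact Subgroup.subset_closure ⟨g * x, K.mul_mem hg hx, by group⟩
  rcases SignalizersComponents.Components.component_le_or_commutator_eq_bot_of_le_normalizer hK hKM
    with h1 | h1
  · intro x hx
    exact (hbC x).1 (hMC (h1 hx))
  · exfalso
    apply not_centralises hD hK ha
    intro x hx
    rw [Subgroup.commutator_eq_bot_iff_le_centralizer] at h1
    have haM : a ∈ M := Subgroup.subset_closure ⟨1, K.one_mem, by simp⟩
    exact ((Subgroup.mem_centralizer_iff.1 (h1 hx)) a haM).symm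

/-- the structure of the group when the 2-core and the 3-core are central -/
theorem structure_thm [Finite G] (hD : IsThreeTranspositionClass D)
    (hD2 : ∃ a ∈ D, ∃ b ∈ D, a ≠ b)
    (h2 : pCore 2 G ≤ Subgroup.center G) (h3 : pCore 3 G ≤ Subgroup.center G) :
    ∃ L : Subgroup G, L.Normal ∧ IsComponent L ∧
      generalizedFittingSubgroup G = L ⊔ Subgroup.center G := by
  have h := exists_component hD hD2 h2 h3
  rw [Ne, SignalizersComponents.ComponentExists.layer_eq_bot_iff] at h
  push Not at h
  obtain ⟨L, hL⟩ := h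
  refine ⟨L, component_normal hD hL, hL, ?_⟩
  have hlayer : layer G = L := by
    apply le_antisymm
    · rw [SignalizersComponents.Components.layer_le_iff]
      intro K hK
      rw [component_unique hD hK hL]
    · exact SignalizersComponents.Components.component_le_layer hL
  have hfit : fittingSubgroup G = Subgroup.center G := by
    apply le_antisymm (fitting_le_center hD h2 h3)
    apply SignalizersComponents.ComponentExists.le_fittingSubgroup
    · infer_instance
    · have : ⁅Subgroup.center G, Subgroup.center G⁆ = ⊥ := by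
        rw [Subgroup.commutator_eq_bot_iff_le_centralizer]
        exact Subgroup.center_le_centralizer _
      apply Subgroup.isNilpotent_of_lowerCentralSeries_eq_bot (n := 1)
      rw [Subgroup.lowerCentralSeries_succ, Subgroup.lowerCentralSeries_zero]
      exact this
  rw [generalizedFittingSubgroup, hlayer, hfit]

end Cfsg.Agent.H805.Comp
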