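import Cfsg.Agent.H805.Base
set_option linter.all false

/-!
Sylow 2-subgroups, the width, and width one.
-/

set_option autoImplicit false

namespace Cfsg.Agent.H805.Width

open Cfsg Cfsg.Agent.SporadicB.ThreeTrans Cfsg.Agent.ThreeTrans375.Basic Cfsg.Agent.H805.Base

variable {G : Type*} [Group G] {D : Set G}

theorem commute_of_sq (hE : IsThreeTranspositionSet D) {a b : G} (ha : a ∈ D) (hb : b ∈ D)
    (h : (a * b) ^ 2 = 1) : Commute a b := by
  have h3 : a * b * (a * b) = 1 := by rw [← pow_two]; exact h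
  have h4 : a * b = (a * b)⁻¹ := eq_inv_of_mul_eq_one_left h3
  show a * b = b * a
  rw [h4, mul_inv_rev, inv_eq hE ha, inv_eq hE hb]

/-- The set whose supremum is the width. -/
def wset (D : Set G) : Set ℕ :=
  {n : ℕ | ∃ E : Set G, E ⊆ D ∧ E.Finite ∧ (∀ a ∈ E, ∀ b ∈ E, Commute a b) ∧ E.ncard = n}

theorem bddAbove [Finite G] (D : Set G) : BddAbove (wset D) := by
  refine ⟨D.ncard, ?_⟩
  rintro n ⟨E, hE, _, _, rfl⟩
  exact Set.ncard_le_ncard hE (Set.toFinite D)

theorem le_width [Finite G] {E : Set G} (hE : E ⊆ D) (hc : ∀ a ∈ E, ∀ b ∈ E, Commute a b) :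
    E.ncard ≤ commutingWidth D :=
  le_csSup (bddAbove D) ⟨E, hE, Set.toFinite E, hc, rfl⟩

theorem width_le [Finite G] {m : ℕ}
    (h : ∀ E : Set G, E ⊆ D → (∀ a ∈ E, ∀ b ∈ E, Commute a b) → E.ncard ≤ m) :
    commutingWidth D ≤ m := by
  refine csSup_le ⟨0, ∅, by simp, by simp, by simp, by simp⟩ ?_
  rintro n ⟨E, hE, _, hc, rfl⟩
  exact h E hE hc

/-- pairwise commuting involutions generate a 2-group -/
theorem isPGroup_closure [Finite G] {E : Set G} (h2 : ∀ a ∈ E, a * a = 1)
    (hc : ∀ a ∈ E, ∀ b ∈ E, Commute a b) : IsPGroup 2 (Subgroup.closure E) := by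
  have hcomm := Subgroup.isMulCommutative_closure (k := E) (fun x hx y hy => (hc x hx y hy).eq)
  have key : ∀ g ∈ Subgroup.closure E, g * g = 1 := by
    intro g hg
    induction hg using Subgroup.closure_induction with
    | mem x hx => exact h2 x hx
    | one => simp
    | mul x y hx hy ihx ihy =>
      have hxy : x * y = y * x := by
        have := mul_comm' (⟨x, hx⟩ : Subgroup.closure E) ⟨y, hy⟩
        exact congrArg Subtype.val this
      calc x * y * (x * y) = x * (y * x) * y := by simp only [mul_assoc]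
        _ = x * (x * y) * y := by rw [hxy]
        _ = (x * x) * (y * y) := by simp only [mul_assoc]
        _ = 1 := by rw [ihx, ihy, one_mul]
    | inv x hx ihx => rw [← mul_inv_rev, ihx, inv_one]
  rintro ⟨g, hg⟩
  refine ⟨1, ?_⟩
  apply Subtype.ext
  show g ^ 2 ^ 1 = 1
  rw [pow_one, pow_two]
  exact key g hg

theorem sylow [Finite G] (hD : IsThreeTranspositionGroup D) (T : Sylow 2 G) :
    IsMulCommutative (Subgroup.closure {d : G | d ∈ D ∧ d ∈ T}) ∧
      {d : G | d ∈ D ∧ d ∈ T}.ncard = commutingWidth D := by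
  have hE := hD.1
  have hcT : ∀ a ∈ {d : G | d ∈ D ∧ d ∈ T}, ∀ b ∈ {d : G | d ∈ D ∧ d ∈ T}, Commute a b := by
    rintro a ⟨ha, haT⟩ b ⟨hb, hbT⟩
    exact commute_of_two hE T.isPGroup' ha hb (mul_mem haT hbT)
  refine ⟨Subgroup.isMulCommutative_closure (fun x hx y hy => (hcT x hx y hy).eq), ?_⟩
  apply le_antisymm
  · exact le_width (fun x hx => hx.1) hcT
  · apply width_le
    intro E hED hc
    have hp := isPGroup_closure (fun a ha => mul_self hE (hED ha)) hc
    have : Fact (Nat.Prime 2) := ⟨Nat.prime_two⟩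
    obtain ⟨S, hS⟩ := hp.exists_le_sylow
    obtain ⟨g, hg⟩ := MulAction.exists_smul_eq G S T
    have hmap : ∀ x ∈ E, g * x * g⁻¹ ∈ {d : G | d ∈ D ∧ d ∈ T} := by
      intro x hx
      refine ⟨hD.2.1 g x (hED hx), ?_⟩
      rw [← hg]
      have h1 : x ∈ S := hS (Subgroup.subset_closure hx)
      exact ⟨x, h1, rfl⟩
    refine Set.ncard_le_ncard_of_injOn (fun x => g * x * g⁻¹) hmap ?_ (Set.toFinite _)
    intro x _ y _ hxy
    exact mul_left_cancel (mul_right_cancel hxy)

/-- Width one: no two different members commute. -/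
theorem width_eq_one_iff [Finite G] (D : Set G) {d : G} (hd : d ∈ D) :
    commutingWidth D = 1 ↔ ∀ a ∈ D, ∀ b ∈ D, Commute a b → a = b := by
  constructor
  · intro h a ha b hb hab
    by_contra hne
    have h1 := le_width (D := D) (E := {a, b}) (by
      rintro x (rfl | rfl)
      · exact ha
      · exact hb) (by
      rintro x (rfl | rfl) y (rfl | rfl)
      · exact Commute.refl _
      · exact hab
      · exact hab.symm
      · exact Commute.refl _)
    rw [Set.ncard_pair hne, h] at h1
    omega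
  · intro h
    apply le_antisymm
    · apply width_le
      intro E hE hc
      rw [Set.ncard_le_one (Set.toFinite E)]
      intro a ha b hb
      exact h a (hE ha) b (hE hb) (hc a ha b hb)
    · have h1 := le_width (D := D) (E := {d}) (by simpa using hd) (by
        rintro x rfl y rfl; exact Commute.refl _)
      simpa using h1

/-- if no two different members commute, the products lie in `O₃(G)` -/
theorem mul_mem_three [Finite G] (hE : IsThreeTranspositionSet D) (hC : ConjClosed D)
    (h : ∀ a ∈ D, ∀ b ∈ D, Commute a b → a = b) : ∀ a ∈ D, ∀ b ∈ D, a * b ∈ pCore 3 G := by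
  have h3 : ∀ a ∈ D, ∀ b ∈ D, (a * b) ^ 3 = 1 := by
    intro a ha b hb
    rcases hE.2 a ha b hb with h1 | h1
    · have h2 := h a ha b hb (commute_of_sq hE ha hb h1)
      rw [h2, mul_self hE hb, one_pow]
    · exact h1
  have hp := Lib.HallTriple.isPGroup_closure_mul_of_normal (T := D)
    (fun a ha => mul_self hE ha) hC h3
  set P : Subgroup G := Subgroup.closure {x : G | ∃ a ∈ D, ∃ b ∈ D, x = a * b} with hP
  have hn : P.Normal := by
    rw [← Subgroup.normalizer_eq_top_iff, ← top_le_iff, hP, Subgroup.le_normalizer_closure_iff]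
    rintro g _ _ ⟨a, ha, b, hb, rfl⟩
    exact Subgroup.subset_closure ⟨g * a * g⁻¹, hC g a ha, g * b * g⁻¹, hC g b hb, by group⟩
  have hle : P ≤ pCore 3 G := Lib.Cores.le_pCore hn hp
  intro a ha b hb
  exact hle (Subgroup.subset_closure ⟨a, ha, b, hb, rfl⟩)

theorem width_one [Finite G] (hD : IsThreeTranspositionGroup D) {d : G} (hd : d ∈ D) :
    commutingWidth D = 1 ↔ Subgroup.zpowers d ⊔ pCore 3 G = ⊤ := by
  have hE := hD.1
  have hC : ConjClosed D := hD.2.1
  rw [width_eq_one_iff D hd]
  constructor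
  · intro h
    have h1 := mul_mem_three hE hC h
    rw [← top_le_iff, ← hD.2.2, Subgroup.closure_le]
    intro b hb
    have h2 := h1 d hd b hb
    have e : b = d * (d * b) := by rw [← mul_assoc, mul_self hE hd, one_mul]
    rw [e]
    exact Subgroup.mul_mem_sup (Subgroup.mem_zpowers d) h2
  · intro h a ha b hb hab
    have hN : (pCore 3 G).Normal := Lib.Cores.pCore_normal 3
    -- each element is in `O₃` or in `d O₃`
    have key : ∀ g ∈ (Subgroup.zpowers d ⊔ pCore 3 G : Subgroup G),
        g ∈ pCore 3 G ∨ d * g ∈ pCore 3 G := by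
      intro g hg
      rw [Subgroup.mem_sup_of_normal_right] at hg
      obtain ⟨x, hx, y, hy, rfl⟩ := hg
      rw [Subgroup.mem_zpowers_iff] at hx
      obtain ⟨k, rfl⟩ := hx
      rcases Int.even_or_odd' k with ⟨m, rfl | rfl⟩
      · left
        have : d ^ (2 * m) = 1 := by rw [zpow_mul]; rw [zpow_two, mul_self hE hd, one_zpow]
        rw [this, one_mul]
        exact hy
      · right
        have : d ^ (2 * m + 1) = d := by
          rw [zpow_add, zpow_mul, zpow_two, mul_self hE hd, one_zpow, one_mul, zpow_one]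
        rw [this, ← mul_assoc, mul_self hE hd, one_mul]
        exact hy
    have : Fact (Nat.Prime 3) := ⟨Nat.prime_three⟩
    have hnot : ∀ x ∈ D, x ∉ pCore 3 G := by
      intro x hx hx3
      have h1 : x ^ 2 = 1 := by rw [pow_two]; exact mul_self hE hx
      have h2 := eq_one_of_pow (Lib.Cores.pCore_isPGroup 3) hx3 (by norm_num) h1
      have h3 := hE.1 x hx
      rw [h2, orderOf_one] at h3
      omega
    have hda := (key a (by rw [h]; exact Subgroup.mem_top a)).resolve_left (hnot a ha)
    have hdb := (key b (by rw [h]; exact Subgroup.mem_top b)).resolve_left (hnot b hb)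
    have hab3 : a * b ∈ pCore 3 G := by
      have h1 := (pCore 3 G).mul_mem ((pCore 3 G).inv_mem hda) hdb
      have e : (d * a)⁻¹ * (d * b) = a * b := by
        rw [mul_inv_rev, inv_eq hE ha, inv_eq hE hd]
        calc a * d * (d * b) = a * (d * d) * b := by simp only [mul_assoc]
          _ = a * b := by rw [mul_self hE hd, mul_one]
      rwa [e] at h1
    exact (eq_of_three hE (Lib.Cores.pCore_isPGroup 3) ha hb hab3 hab).symm

/-- A 3-transposition normalising a `p`-subgroup, `p > 3`, centralises it. -/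
theorem commute_of_normalizes (hD : IsThreeTranspositionGroup D) {p : ℕ} (hp : p.Prime)
    (h3 : 3 < p) (P : Subgroup G) (hP : IsPGroup p P) {d : G} (hd : d ∈ D)
    (hn : d ∈ Subgroup.normalizer (P : Set G)) {x : G} (hx : x ∈ P) : Commute d x := by
  have hE := hD.1
  have : Fact p.Prime := ⟨hp⟩
  have h1 : d * (x * d * x⁻¹) ∈ P := by
    have h2 : d * x * d⁻¹ ∈ P := (Subgroup.mem_normalizer_iff.1 hn x).1 hx
    rw [inv_eq hE hd] at h2
    have e : d * (x * d * x⁻¹) = (d * x * d) * x⁻¹ := by simp only [mul_assoc]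
    rw [e]
    exact P.mul_mem h2 (P.inv_mem hx)
  have h4 : d * (x * d * x⁻¹) = 1 := by
    rcases hE.2 d hd _ (hD.2.1 x d hd) with h | h
    · refine eq_one_of_pow hP h1 ?_ h
      rw [Nat.coprime_primes Nat.prime_two hp]
      omega
    · refine eq_one_of_pow hP h1 ?_ h
      rw [Nat.coprime_primes Nat.prime_three hp]
      omega
  exact (conj_eq_self_iff.1 (eq_of_mul_eq_one hE hd h4)).symm

end Cfsg.Agent.H805.Width
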